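import Cfsg.Agent.H44.Ly477.Counts
import Cfsg.Agent.H34.Ly.Main

/-!
The centraliser in `G₂(5)` of the element of order three: order 378000, generated modulo the element by two
explicit elements, acting on the 252 fixed objects with kernel generated by the element.
-/

set_option autoImplicit false
set_option Elab.async false
set_option maxRecDepth 100000
set_option linter.style.haveILetI false

namespace Cfsg.Agent.H44.Ly477

open Cfsg.Agent.Compute
open Cfsg.Agent.H27.LyG2 (Seven.S Seven.o Seven.GL7 K44)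
open Cfsg.Agent.H34.Ly (objData objC ac ac_one ac_mul objC_move objC_inj codeOK moveCode tabOK mlY wmatL
  objY along_sound baseY)
open Cfsg.Agent.H37.LyPerm (psi7 psi7_inj psi7_word KS sub mgrp)
open Cfsg.Agent.H37.LyPerm.Data (WPee WEll)

local instance : Fact (Nat.Prime 5) := ⟨by norm_num⟩

/-- seven-dimensional letters in the alphabet of the object tables -/
def c34 : ℕ → ℕ
  | 0 => 0
  | 2 => 1
  | 4 => 2
  | 14 => 3
  | 1 => 4
  | 3 => 5
  | 5 => 6
  | _ => 7

/-- a word of the centraliser as a seven-dimensional word -/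
def flat (v : List ℕ) : List ℕ := v.flatMap fun j => mW.getD j []

/-- move a code along a word of the centraliser -/
noncomputable def mv (v : List ℕ) : ℕ → Bool × ℕ :=
  List.rec (fun x => (true, x))
    (fun j _ ih x => cond (Nat.blt j 4 && codeOK objData.npt x)
      (ih (moveCode (mTab.getD j 0) x)) (false, x)) v

theorem mTab_ok0 : tabOK objData.pts objData.npt (H27.LyG2.Seven.evM (mW.getD 0 [])) (mTab.getD 0 0) = true := by
  decide +kernel
theorem mTab_ok1 : tabOK objData.pts objData.npt (H27.LyG2.Seven.evM (mW.getD 1 [])) (mTab.getD 1 0) = true := by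
  decide +kernel
theorem mTab_ok2 : tabOK objData.pts objData.npt (H27.LyG2.Seven.evM (mW.getD 2 [])) (mTab.getD 2 0) = true := by
  decide +kernel
theorem mTab_ok3 : tabOK objData.pts objData.npt (H27.LyG2.Seven.evM (mW.getD 3 [])) (mTab.getD 3 0) = true := by
  decide +kernel

theorem mTab_ok (j : ℕ) (hj : j < 4) :
    tabOK objData.pts objData.npt (H27.LyG2.Seven.evM (mW.getD j [])) (mTab.getD j 0) = true := by
  interval_cases j
  exacts [mTab_ok0, mTab_ok1, mTab_ok2, mTab_ok3]

/-- code of the first object -/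
noncomputable def code0 : ℕ := (objData.along m0W objData.ob0).2

/-- code of base object `j` -/
noncomputable def baseCode (j : ℕ) : ℕ := (mv (baseW.getD j []) code0).2

/-- the check of one level of the chain -/
noncomputable def levOK (k : ℕ) (ws : List (List ℕ)) : Bool :=
  allN ws.length fun i =>
    (mv (ws.getD i []) (baseCode k)).1 && codeOK objData.npt (mv (ws.getD i []) (baseCode k)).2 &&
    allN k (fun l => (mv (ws.getD i []) (baseCode l)).1 &&
      Nat.beq (mv (ws.getD i []) (baseCode l)).2 (baseCode l)) &&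
    (Nat.ble ws.length (i + 1) ||
      Nat.blt (mv (ws.getD i []) (baseCode k)).2 (mv (ws.getD (i + 1) []) (baseCode k)).2)

theorem lev0 : levOK 0 orbW0 = true := by decide +kernel
theorem lev1 : levOK 1 orbW1 = true := by decide +kernel
theorem lev2 : levOK 2 orbW2 = true := by decide +kernel

/-- small checks -/
noncomputable def chainMisc : Bool :=
  (objData.along m0W objData.ob0).1 &&
    Nat.beq (wmatL mlY m0W) (H27.LyG2.Seven.evM (wW1.map inv7).reverse) &&
    allN 3 (fun j => (mv (baseW.getD j []) code0).1) &&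
    (WPee ++ WEll).all (fun w => (objData.along (w.map c34) objData.ob0).1 &&
      Nat.beq (objData.along (w.map c34) objData.ob0).2 objData.ob0 &&
      Nat.beq (wmatL mlY (w.map c34)) (H27.LyG2.Seven.evM w)) &&
    allN 2 (fun j => Seven.o.eqv (H27.LyG2.Seven.evM (mW.getD j [] ++ xW))
        (H27.LyG2.Seven.evM (xW ++ mW.getD j [])) &&
      Seven.o.eqv (H27.LyG2.Seven.evM (mW.getD (j + 2) [] ++ mW.getD j [])) Seven.o.one) &&
    Seven.o.eqv (H27.LyG2.Seven.evM (xW ++ xW ++ xW)) Seven.o.one &&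
    !(Seven.o.eqv (H27.LyG2.Seven.evM xW) Seven.o.one) &&
    Nat.beq mW.length 4

theorem chain_misc : chainMisc = true := by decide +kernel

theorem tX_eq : tX = kW xW := rfl

theorem orderOf_tX : orderOf tX = 3 := by
  have h := chain_misc
  simp only [chainMisc, Bool.and_eq_true, Bool.not_eq_true'] at h
  refine orderOf_eq_prime ?_ fun h1 => ?_
  · refine psi7_inj ?_
    rw [tX_eq, pow_succ, pow_two, ← kW_append, ← kW_append, psi_kW, map_one, ← Seven.S.den_one]
    exact (Seven.S.eqv_iff (H27.LyG2.Seven.evM_ok _).1 Seven.S.ok_one).1 h.1.1.2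
  · have h2 : Seven.o.eqv (H27.LyG2.Seven.evM xW) Seven.o.one = true :=
      (Seven.S.eqv_iff (H27.LyG2.Seven.evM_ok _).1 Seven.S.ok_one).2 (by
        rw [← psi_kW, ← tX_eq, h1, map_one, Seven.S.den_one])
    rw [h.1.2] at h2
    exact Bool.false_ne_true h2

/-- `K44` acting on objects -/
@[reducible] noncomputable def objAct : MulAction K44 H34.Ly.Obj where
  smul a X := ac X (psi7 a)⁻¹
  one_smul X := by
    show ac X (psi7 1)⁻¹ = X
    rw [map_one, inv_one, ac_one]
  mul_smul a b X := by
    show ac X (psi7 (a * b))⁻¹ = ac (ac X (psi7 b)⁻¹) (psi7 a)⁻¹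
    rw [ac_mul, map_mul, mul_inv_rev]

attribute [local instance] objAct

theorem den_eq (M : ℕ) : H34.Ly.den M = Seven.S.den M := by
  unfold H34.Ly.den Seven.S H34.Ly.snd7
  rfl

theorem ok7_eq {M : ℕ} (h : Seven.S.ok M) : H34.Ly.Ok7 M := by
  unfold H34.Ly.Ok7 H34.Ly.snd7
  exact h

theorem obj_smul (a : K44) (X : H34.Ly.Obj) : a • X = ac X (psi7 a)⁻¹ := rfl

theorem ac_psi (a : K44) (X : H34.Ly.Obj) : ac X (psi7 a) = a⁻¹ • X := by
  rw [obj_smul, map_inv, inv_inv]

/-- the base object of the tables -/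
noncomputable def o0 : H34.Ly.Obj := objC objData.pts objData.ob0

theorem along_kW {w : List ℕ} {v : List ℕ} (h : (objData.along v objData.ob0).1 = true)
    (he : Nat.beq (wmatL mlY v) (H27.LyG2.Seven.evM w) = true) :
    objC objData.pts (objData.along v objData.ob0).2 = (kW w)⁻¹ • o0 := by
  rw [(along_sound objY _ _ h).2, show baseY.ml = mlY from rfl, Nat.eq_of_beq_eq_true he, den_eq, ← ac_psi, psi_kW]
  rfl

theorem ks_one_fix : ∀ k ∈ KS 1, k • o0 = o0 := by
  intro k hk
  have hst : mgrp (WPee ++ WEll) ≤ (MulAction.stabilizer K44 o0).map psi7 := by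
    rw [mgrp, Subgroup.closure_le]
    rintro _ ⟨w, hw, rfl⟩
    have h := chain_misc
    simp only [chainMisc, Bool.and_eq_true, List.all_eq_true] at h
    obtain ⟨⟨hal, he⟩, heq⟩ := h.1.1.1.1.2 w hw
    refine ⟨kW w, ?_, psi7_word w⟩
    rw [SetLike.mem_coe, MulAction.mem_stabilizer_iff]
    have h2 := along_kW hal heq
    rw [Nat.eq_of_beq_eq_true he] at h2
    exact (eq_inv_smul_iff).mp h2
  obtain ⟨k', hk', e⟩ := hst hk
  rw [← psi7_inj e]
  exact hk'

theorem mv_sound : ∀ (v : List ℕ) (x : ℕ), (mv v x).1 = true →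
    objC objData.pts (mv v x).2 = (kW (flat v))⁻¹ • objC objData.pts x := by
  intro v
  induction v with
  | nil =>
    intro x _
    show objC objData.pts x = _
    simp [flat, kW, H45.evalW]
  | cons j t ih =>
    intro x h
    have hmv : mv (j :: t) x = cond (Nat.blt j 4 && codeOK objData.npt x)
        (mv t (moveCode (mTab.getD j 0) x)) (false, x) := rfl
    rw [hmv] at h ⊢
    cases hc : (Nat.blt j 4 && codeOK objData.npt x)
    · rw [hc] at h; simp at h
    · rw [hc, cond_true] at h
      rw [cond_true]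
      simp only [Bool.and_eq_true, Nat.blt_eq] at hc
      rw [ih _ h, show flat (j :: t) = mW.getD j [] ++ flat t from List.flatMap_cons, kW_append, mul_inv_rev,
        mul_smul, ← objC_move objY.hn objY.hpts (ok7_eq (H27.LyG2.Seven.evM_ok _).1) (mTab_ok j hc.1) hc.2,
        den_eq, ← psi_kW, ac_psi]

/-- first fixed object -/
noncomputable def base0 : H34.Ly.Obj := kW wW1 • o0

/-- the three base objects -/
noncomputable def basePt (j : ℕ) : H34.Ly.Obj := (kW (flat (baseW.getD j [])))⁻¹ • base0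

theorem baseCode_eq (j : ℕ) (hj : j < 3) : objC objData.pts (baseCode j) = basePt j := by
  have h := chain_misc
  simp only [chainMisc, Bool.and_eq_true, allN_iff] at h
  rw [baseCode, mv_sound _ _ (h.1.1.1.1.1.2 j hj), code0,
    along_kW h.1.1.1.1.1.1.1 h.1.1.1.1.1.1.2, kW_inv inv_ok1, inv_inv]
  rfl

/-- two elements and the element of order three -/
noncomputable def Pm : Subgroup K44 :=
  Subgroup.closure {k | ∃ j < 2, k = kW (mW.getD j [])} ⊔ Subgroup.zpowers tX

theorem Pm_le : Pm ≤ Subgroup.centralizer ({tX} : Set K44) := by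
  refine sup_le ((Subgroup.closure_le _).2 ?_) (Subgroup.zpowers_le.2
    (Subgroup.mem_centralizer_singleton_iff.2 rfl))
  rintro _ ⟨j, hj, rfl⟩
  rw [SetLike.mem_coe, Subgroup.mem_centralizer_singleton_iff]
  have h := chain_misc
  simp only [chainMisc, Bool.and_eq_true, allN_iff] at h
  refine psi7_inj ?_
  rw [tX_eq, ← kW_append, ← kW_append, psi_kW, psi_kW]
  exact (Seven.S.eqv_iff (H27.LyG2.Seven.evM_ok _).1 (H27.LyG2.Seven.evM_ok _).1).1 (h.1.1.1.2 j hj).1

theorem flat_mem (v : List ℕ) : kW (flat v) ∈ Pm := by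
  induction v with
  | nil => exact Pm.one_mem
  | cons j t ih =>
    rw [show flat (j :: t) = mW.getD j [] ++ flat t from List.flatMap_cons, kW_append]
    refine Pm.mul_mem ?_ ih
    have hgen : ∀ i < 2, kW (mW.getD i []) ∈ Pm := fun i hi =>
      Subgroup.mem_sup_left (Subgroup.subset_closure ⟨i, hi, rfl⟩)
    by_cases hj : j < 2
    · exact hgen j hj
    by_cases hj4 : j < 4
    · obtain ⟨i, rfl⟩ : ∃ i, j = i + 2 := ⟨j - 2, by omega⟩
      have h := chain_misc
      simp only [chainMisc, Bool.and_eq_true, allN_iff] at h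
      have e : kW (mW.getD (i + 2) []) = (kW (mW.getD i []))⁻¹ := by
        refine eq_inv_of_mul_eq_one_left (psi7_inj ?_)
        rw [← kW_append, psi_kW, map_one, ← Seven.S.den_one]
        exact (Seven.S.eqv_iff (H27.LyG2.Seven.evM_ok _).1 Seven.S.ok_one).1 (h.1.1.1.2 i (by omega)).2
      rw [e]
      exact Pm.inv_mem (hgen i (by omega))
    · have h := chain_misc
      simp only [chainMisc, Bool.and_eq_true, Nat.beq_eq] at h
      rw [List.getD_eq_default _ _ (by omega)]
      exact Pm.one_mem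

theorem lev_sound {k n : ℕ} (hk : k < 3) (ws : List (List ℕ)) (h : levOK k ws = true) (hn : ws.length = n)
    (A : Subgroup K44) (hA : Pm ≤ A) :
    ∃ l : Fin n → A, (∀ i, ∀ l' < k, (l i : A) • basePt l' = basePt l') ∧
      Function.Injective fun i => l i • basePt k := by
  subst hn
  rw [levOK, allN_iff] at h
  refine ⟨fun i => ⟨(kW (flat (ws.getD i [])))⁻¹, hA (Pm.inv_mem (flat_mem _))⟩, fun i l' hl' => ?_, ?_⟩
  · have hi := h i i.2
    simp only [Bool.and_eq_true, allN_iff] at hi
    obtain ⟨h1, h2⟩ := hi.1.2 l' hl'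
    have e := mv_sound _ _ h1
    rw [Nat.eq_of_beq_eq_true h2, baseCode_eq l' (by omega)] at e
    exact e.symm
  · have hstep : ∀ i, i + 1 < ws.length →
        (mv (ws.getD i []) (baseCode k)).2 < (mv (ws.getD (i + 1) []) (baseCode k)).2 := by
      intro i hi
      have := h i (by omega)
      simp only [Bool.and_eq_true, Bool.or_eq_true, Nat.ble_eq, Nat.blt_eq] at this
      exact this.2.resolve_left (by omega)
    have hlt : ∀ {i j : ℕ}, i < j → j < ws.length →
        (mv (ws.getD i []) (baseCode k)).2 < (mv (ws.getD j []) (baseCode k)).2 := by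
      intro i j hij
      induction hij with
      | refl => intro hj; exact hstep _ hj
      | @step m hm ih => intro hj; exact (ih (by omega)).trans (hstep m hj)
    intro i j e
    have hi := h i i.2
    have hj := h j j.2
    simp only [Bool.and_eq_true] at hi hj
    have e' : (mv (ws.getD i []) (baseCode k)).2 = (mv (ws.getD j []) (baseCode k)).2 := by
      refine objC_inj objY.hpts hi.1.1.2 hj.1.1.2 ?_
      rw [mv_sound _ _ hi.1.1.1, mv_sound _ _ hj.1.1.1, baseCode_eq k hk]
      exact e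
    rcases lt_trichotomy (i : ℕ) j with hl | he | hg
    · exact absurd e' (hlt hl j.2).ne
    · exact Fin.ext he
    · exact absurd e' (hlt hg i.2).ne'

theorem chain_le (A : Subgroup K44) (hA : Pm ≤ A) :
    252 * 125 * 4 * Nat.card {a : A // a • basePt 0 = basePt 0 ∧ a • basePt 1 = basePt 1 ∧
      a • basePt 2 = basePt 2} ≤ Nat.card A := by
  haveI := finite_K44
  obtain ⟨l0, -, i0⟩ := lev_sound (k := 0) (by norm_num) orbW0 lev0 (n := 252) rfl A hA
  obtain ⟨l1, f1, i1⟩ := lev_sound (k := 1) (by norm_num) orbW1 lev1 (n := 125) rfl A hA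
  obtain ⟨l2, f2, i2⟩ := lev_sound (k := 2) (by norm_num) orbW2 lev2 (n := 4) rfl A hA
  exact card_chain _ _ _ ⟨l0, i0⟩ ⟨l1, fun i => f1 i 0 (by norm_num), i1⟩
    ⟨l2, fun i => ⟨f2 i 0 (by norm_num), f2 i 1 (by norm_num)⟩, i2⟩

theorem kW_wW1_conj : (kW wW1)⁻¹ * tX * kW wW1 ∈ KS 1 := by
  rw [← kW_conj inv_ok1]
  show psi7 (kW (conjX wW1)) ∈ mgrp (WPee ++ WEll)
  obtain ⟨-, -, hokL, -⟩ := H37.LyPerm.closure_spec H37.LyPerm.gEll_eq H37.LyPerm.oneEll H37.LyPerm.incrEll
    H37.LyPerm.allEll
  obtain ⟨x, hx, hxe⟩ := H37.LyPerm.mem_of_look mem_ell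
  rw [psi_kW, ← hxe, H37.LyPerm.mgrp_append]
  exact Subgroup.mem_sup_right (hokL x hx).2

theorem tX_fix (j : ℕ) : tX • basePt j = basePt j := by
  have h0 : tX • base0 = base0 := by
    have h := ks_one_fix _ kW_wW1_conj
    rw [base0, smul_smul]
    conv_rhs => rw [← h, smul_smul]
    congr 1
    simp [mul_assoc]
  have hc := Subgroup.mem_centralizer_singleton_iff.1 (Pm_le (Pm.inv_mem (flat_mem (baseW.getD j []))))
  rw [basePt, smul_smul, ← hc, ← smul_smul, h0]

/-- The centraliser of the element of order three in `G₂(5)`. -/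
theorem centralizer_tX :
    Nat.card (Subgroup.centralizer ({tX} : Set K44)) = 378000 ∧
      Pm = Subgroup.centralizer ({tX} : Set K44) ∧
      ∀ c ∈ Subgroup.centralizer ({tX} : Set K44),
        (∀ j < 3, c • basePt j = basePt j) → c ∈ Subgroup.zpowers tX := by
  classical
  haveI := finite_K44
  set C := Subgroup.centralizer ({tX} : Set K44)
  have hz : ∀ (A : Subgroup K44), tX ∈ A →
      3 ≤ Nat.card {a : A // a • basePt 0 = basePt 0 ∧ a • basePt 1 = basePt 1 ∧ a • basePt 2 = basePt 2} := by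
    intro A hA
    have h3 : Nat.card (Subgroup.zpowers tX) = 3 := by rw [Nat.card_zpowers, orderOf_tX]
    have hle : Subgroup.zpowers tX ≤ A ⊓ (MulAction.stabilizer K44 (basePt 0) ⊓
        MulAction.stabilizer K44 (basePt 1) ⊓ MulAction.stabilizer K44 (basePt 2)) :=
      Subgroup.zpowers_le.2 ⟨hA, ⟨tX_fix 0, tX_fix 1⟩, tX_fix 2⟩
    rw [← h3]
    exact Nat.card_le_card_of_injective
      (fun z => ⟨⟨z, (hle z.2).1⟩, (hle z.2).2.1.1, (hle z.2).2.1.2, (hle z.2).2.2⟩)
      fun a b h => Subtype.ext (congrArg (fun z => ((z : A) : K44)) (congrArg Subtype.val h))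
  have htC : tX ∈ C := Subgroup.mem_centralizer_singleton_iff.2 rfl
  have h1 := chain_le C Pm_le
  have h2 := chain_le Pm le_rfl
  have h3 := hz C htC
  have h4 := hz Pm (Subgroup.mem_sup_right (Subgroup.mem_zpowers tX))
  have h5 : Nat.card C ≤ 378000 := card_centralizer_tX_le
  have h6 : Nat.card Pm ≤ Nat.card C := Subgroup.card_le_of_le Pm_le
  refine ⟨by omega, Subgroup.eq_of_le_of_card_ge Pm_le (by omega), fun c hc hfix => ?_⟩
  have hX : Nat.card {a : C // a • basePt 0 = basePt 0 ∧ a • basePt 1 = basePt 1 ∧ a • basePt 2 = basePt 2} ≤ 3 := by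
    omega
  let f : Subgroup.zpowers tX → {a : C // a • basePt 0 = basePt 0 ∧ a • basePt 1 = basePt 1 ∧
      a • basePt 2 = basePt 2} := fun z => ⟨⟨z, (Subgroup.zpowers_le.2 htC) z.2⟩, by
    have hz' : (z : K44) ∈ MulAction.stabilizer K44 (basePt 0) ⊓ MulAction.stabilizer K44 (basePt 1) ⊓
        MulAction.stabilizer K44 (basePt 2) :=
      (Subgroup.zpowers_le (g := tX) (H := MulAction.stabilizer K44 (basePt 0) ⊓
        MulAction.stabilizer K44 (basePt 1) ⊓ MulAction.stabilizer K44 (basePt 2))).2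
        ⟨⟨tX_fix 0, tX_fix 1⟩, tX_fix 2⟩ z.2
    exact ⟨hz'.1.1, hz'.1.2, hz'.2⟩⟩
  have hf : Function.Injective f := fun a b h =>
    Subtype.ext (congrArg (fun z => ((z : C) : K44)) (congrArg Subtype.val h))
  have hb := hf.bijective_of_nat_card_le (by rw [Nat.card_zpowers, orderOf_tX]; exact hX)
  obtain ⟨z, hzc⟩ := hb.2 ⟨⟨c, hc⟩, hfix 0 (by norm_num), hfix 1 (by norm_num), hfix 2 (by norm_num)⟩
  have : (z : K44) = c := congrArg (fun w => ((w : C) : K44)) (congrArg Subtype.val hzc)
  exact this ▸ z.2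

end Cfsg.Agent.H44.Ly477
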