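import Cfsg.Agent.H37.LyPerm.Stab
import Cfsg.Agent.H27.LyRep.Card
import Cfsg.Agent.H44.Ly477.Data

/-!
Checks in the 111-dimensional representation: commutation with the element of order three, and elements of
order eleven.
-/

set_option autoImplicit false
set_option Elab.async false
set_option maxRecDepth 100000

namespace Cfsg.Agent.H44.Ly477

open Cfsg.Agent.H37.LyPerm (Val val_word eq_of_chk elt elt_append inv5 repW)
open Cfsg.Agent.H27.LyRep (evM rho_injective)

/-- letters of the seven-dimensional alphabet as letters of the five generators -/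
def tr5 (l : ℕ) : ℕ := if l = 14 then 6 else if l = 15 then 7 else l

/-- the element of order three -/
def x5 : List ℕ := xW.map tr5

/-- the four elements joining the fixed cosets -/
def yW : List (List ℕ) :=
  [(hW1, wW1, 1), (hW2, wW2, 2), (hW3, wW3, 3), (hW4, wW4, 4)].map fun p =>
    p.1.map tr5 ++ repW.getD p.2.2 [] ++ ((p.2.1.map tr5).map inv5).reverse

theorem eq_of_evM {u v : List ℕ} (h : Nat.beq (evM u) (evM v) = true) : elt u = elt v :=
  eq_of_chk rho_injective (val_word u (Nat.beq_refl _)) (val_word v (Nat.beq_refl _)) h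

theorem y_chk0 : Nat.beq (evM (yW.getD 0 [] ++ x5)) (evM (x5 ++ yW.getD 0 [])) = true := by decide +kernel
theorem y_chk1 : Nat.beq (evM (yW.getD 1 [] ++ x5)) (evM (x5 ++ yW.getD 1 [])) = true := by decide +kernel
theorem y_chk2 : Nat.beq (evM (yW.getD 2 [] ++ x5)) (evM (x5 ++ yW.getD 2 [])) = true := by decide +kernel
theorem y_chk3 : Nat.beq (evM (yW.getD 3 [] ++ x5)) (evM (x5 ++ yW.getD 3 [])) = true := by decide +kernel

theorem e_chk0 : Nat.beq (evM (elevW.getD 0 [] ++ x5)) (evM (x5 ++ elevW.getD 0 [])) = true := by decide +kernel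
theorem e_chk1 : Nat.beq (evM (elevW.getD 1 [] ++ x5)) (evM (x5 ++ elevW.getD 1 [])) = true := by decide +kernel
theorem e_chk2 : Nat.beq (evM (elevW.getD 2 [] ++ x5)) (evM (x5 ++ elevW.getD 2 [])) = true := by decide +kernel
theorem e_chk3 : Nat.beq (evM (elevW.getD 3 [] ++ x5)) (evM (x5 ++ elevW.getD 3 [])) = true := by decide +kernel

/-- the inverse word -/
def winv5 (w : List ℕ) : List ℕ := (w.map inv5).reverse

theorem p_chk0 : Nat.beq (evM (List.replicate 6 (elevW.getD 0 [])).flatten)
    (evM (List.replicate 5 (winv5 (elevW.getD 0 []))).flatten) = true := by decide +kernel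
theorem p_chk1 : Nat.beq (evM (List.replicate 6 (elevW.getD 1 [])).flatten)
    (evM (List.replicate 5 (winv5 (elevW.getD 1 []))).flatten) = true := by decide +kernel
theorem p_chk2 : Nat.beq (evM (List.replicate 6 (elevW.getD 2 [])).flatten)
    (evM (List.replicate 5 (winv5 (elevW.getD 2 []))).flatten) = true := by decide +kernel
theorem p_chk3 : Nat.beq (evM (List.replicate 6 (elevW.getD 3 [])).flatten)
    (evM (List.replicate 5 (winv5 (elevW.getD 3 []))).flatten) = true := by decide +kernel

theorem m_chk0 : Nat.beq (evM (elevW.getD 0 [])) (evM ((mW.getD 0 []).map tr5 ++ elevW.getD 1 [])) = true := by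
  decide +kernel
theorem m_chk1 : Nat.beq (evM (elevW.getD 2 [])) (evM ((mW.getD 1 []).map tr5 ++ elevW.getD 3 [])) = true := by
  decide +kernel

theorem elt_pow (w : List ℕ) (n : ℕ) : elt (List.replicate n w).flatten = elt w ^ n := by
  induction n with
  | zero => rw [pow_zero]; exact H37.LyPerm.elt_nil
  | succ n ih => rw [List.replicate_succ, List.flatten_cons, elt_append, ih, pow_succ']

theorem y_comm (i : ℕ) (hi : i < 4) : elt (yW.getD i []) * elt x5 = elt x5 * elt (yW.getD i []) := by
  rw [← elt_append, ← elt_append]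
  interval_cases i
  exacts [eq_of_evM y_chk0, eq_of_evM y_chk1, eq_of_evM y_chk2, eq_of_evM y_chk3]

theorem elev_comm (i : ℕ) (hi : i < 4) :
    elt (elevW.getD i []) * elt x5 = elt x5 * elt (elevW.getD i []) := by
  rw [← elt_append, ← elt_append]
  interval_cases i
  exacts [eq_of_evM e_chk0, eq_of_evM e_chk1, eq_of_evM e_chk2, eq_of_evM e_chk3]

theorem elev_pow (i : ℕ) (hi : i < 4) : elt (elevW.getD i []) ^ 11 = 1 := by
  have key : ∀ w : List ℕ, Nat.beq (evM (List.replicate 6 w).flatten)
      (evM (List.replicate 5 (winv5 w)).flatten) = true → elt w ^ 11 = 1 := by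
    intro w h
    have e := eq_of_evM h
    rw [elt_pow, elt_pow, winv5, H37.LyPerm.elt_inv, inv_pow] at e
    rw [show (11 : ℕ) = 6 + 5 from rfl, pow_add, e, inv_mul_cancel]
  interval_cases i
  exacts [key _ p_chk0, key _ p_chk1, key _ p_chk2, key _ p_chk3]

theorem m_split (j : ℕ) (hj : j < 2) :
    elt ((mW.getD j []).map tr5) = elt (elevW.getD (2 * j) []) * (elt (elevW.getD (2 * j + 1) []))⁻¹ := by
  rw [eq_mul_inv_iff_mul_eq, ← elt_append]
  interval_cases j
  exacts [(eq_of_evM m_chk0).symm, (eq_of_evM m_chk1).symm]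

end Cfsg.Agent.H44.Ly477
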