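import Mathlib

/-!
Counting lemmas for centralisers in coset actions: fixed cosets against elements of a subgroup with a
conjugation-invariant property, orbits against centralisers inside the subgroup, and a three-step
stabiliser chain.
-/

set_option autoImplicit false
set_option linter.style.haveILetI false

namespace Cfsg.Agent.H44.Ly477

open MulAction

variable {U : Type*} [Group U]

/-- Fixed cosets of `K` in `U`, against the conjugates of `t` in `K`. -/
theorem card_fixedBy_mul_le [Finite U] (K : Subgroup U) (t : U) (P : U → Prop)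
    (hP : ∀ u : U, P (u⁻¹ * t * u)) :
    Nat.card (fixedBy (U ⧸ K) t) * Nat.card K ≤
      Nat.card (Subgroup.centralizer ({t} : Set U)) * Nat.card {k : K // P (k : U)} := by
  classical
  have hk : ∀ (q : fixedBy (U ⧸ K) t) (k : K),
      ((q : U ⧸ K).out * k)⁻¹ * t * ((q : U ⧸ K).out * k) ∈ K := fun q k => by
    have h := q.2
    rw [mem_fixedBy, ← QuotientGroup.out_eq' (q : U ⧸ K), Quotient.smul_coe, smul_eq_mul,
      QuotientGroup.eq] at h
    have h2 : (q : U ⧸ K).out⁻¹ * t * (q : U ⧸ K).out ∈ K := by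
      have := K.inv_mem h
      simpa [mul_assoc] using this
    rw [show ((q : U ⧸ K).out * k)⁻¹ * t * ((q : U ⧸ K).out * k) =
      (k : U)⁻¹ * ((q : U ⧸ K).out⁻¹ * t * (q : U ⧸ K).out) * k by simp [mul_assoc]]
    exact K.mul_mem (K.mul_mem (K.inv_mem k.2) h2) k.2
  let F : fixedBy (U ⧸ K) t × K → {k : K // P (k : U)} := fun p =>
    ⟨⟨_, hk p.1 p.2⟩, hP _⟩
  let y : {k : K // P (k : U)} → U := fun s =>
    if h : ∃ p, F p = s then ((h.choose.1 : U ⧸ K).out * h.choose.2) else 1
  let E : fixedBy (U ⧸ K) t × K → Subgroup.centralizer ({t} : Set U) × {k : K // P (k : U)} :=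
    fun p => (⟨((p.1 : U ⧸ K).out * p.2) * (y (F p))⁻¹, by
      have hex : ∃ p', F p' = F p := ⟨p, rfl⟩
      have e : ((hex.choose.1 : U ⧸ K).out * hex.choose.2)⁻¹ * t *
          ((hex.choose.1 : U ⧸ K).out * hex.choose.2) =
          ((p.1 : U ⧸ K).out * p.2)⁻¹ * t * ((p.1 : U ⧸ K).out * p.2) :=
        congrArg (fun z : {k : K // P (k : U)} => ((z : K) : U)) hex.choose_spec
      rw [Subgroup.mem_centralizer_singleton_iff]
      simp only [y, dif_pos hex]
      generalize (p.1 : U ⧸ K).out * p.2 = a at e ⊢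
      generalize (hex.choose.1 : U ⧸ K).out * hex.choose.2 = b at e ⊢
      calc a * b⁻¹ * t = a * (b⁻¹ * t * b) * b⁻¹ := by simp [mul_assoc]
        _ = t * (a * b⁻¹) := by rw [e]; simp [mul_assoc]⟩, F p)
  have hE : Function.Injective E := by
    rintro ⟨q, k⟩ ⟨q', k'⟩ h
    have h1 := congrArg Prod.snd h
    have h2 := congrArg (fun z => ((z.1 : Subgroup.centralizer ({t} : Set U)) : U)) h
    simp only [E] at h1 h2
    rw [h1, mul_left_inj] at h2
    have hq : (q : U ⧸ K) = q' := by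
      rw [← QuotientGroup.out_eq' (q : U ⧸ K), ← QuotientGroup.out_eq' (q' : U ⧸ K), QuotientGroup.eq,
        show (q : U ⧸ K).out⁻¹ * (q' : U ⧸ K).out = (k : U) * (k' : U)⁻¹ by
          rw [eq_mul_inv_iff_mul_eq, mul_assoc, ← h2, inv_mul_cancel_left]]
      exact K.mul_mem k.2 (K.inv_mem k'.2)
    have hq' : q = q' := Subtype.ext hq
    subst hq'
    exact Prod.ext rfl (Subtype.ext (mul_left_cancel h2))
  have := Nat.card_le_card_of_injective E hE
  rwa [Nat.card_prod, Nat.card_prod] at this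

/-- A conjugation-invariant map with many values bounds a centraliser. -/
theorem card_centralizer_mul_le [Finite U] (t : U) (s : Set U) (hs : ∀ a ∈ s, ∃ u, u⁻¹ * t * u = a) :
    Nat.card (Subgroup.centralizer ({t} : Set U)) * Nat.card s ≤ Nat.card U := by
  classical
  choose f hf using fun a : s => hs a a.2
  let E : Subgroup.centralizer ({t} : Set U) × s → U := fun p => (p.1 : U) * f p.2
  have hconj : ∀ p, (E p)⁻¹ * t * E p = (p.2 : U) := by
    rintro ⟨⟨c, hc⟩, a⟩
    rw [Subgroup.mem_centralizer_singleton_iff] at hc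
    show (c * f a)⁻¹ * t * (c * f a) = _
    calc (c * f a)⁻¹ * t * (c * f a) = (f a)⁻¹ * (c⁻¹ * (t * c)) * f a := by simp [mul_assoc]
      _ = a := by rw [← hc, inv_mul_cancel_left, hf]
  have hE : Function.Injective E := by
    intro p q h
    have h2 : p.2 = q.2 := Subtype.ext (by rw [← hconj p, ← hconj q, h])
    refine Prod.ext (Subtype.ext (mul_right_cancel (b := f q.2) ?_)) h2
    have h' : (p.1 : U) * f p.2 = (q.1 : U) * f q.2 := h
    rwa [h2] at h'
  have := Nat.card_le_card_of_injective E hE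
  rwa [Nat.card_prod] at this

/-- The orbit of a coset under a centraliser, against the centraliser inside the subgroup. -/
theorem card_centralizer_le_orbit [Finite U] (K : Subgroup U) (t m : U) :
    Nat.card (Subgroup.centralizer ({t} : Set U)) ≤
      Nat.card (orbit (Subgroup.centralizer ({t} : Set U)) ((m : U) : U ⧸ K)) *
        Nat.card {k : K // (k : U) * (m⁻¹ * t * m) = m⁻¹ * t * m * (k : U)} := by
  set C := Subgroup.centralizer ({t} : Set U)
  rw [Subgroup.card_eq_card_quotient_mul_card_subgroup (stabilizer C ((m : U) : U ⧸ K)),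
    ← Nat.card_congr (orbitEquivQuotientStabilizer C ((m : U) : U ⧸ K))]
  refine Nat.mul_le_mul_left _ (Nat.card_le_card_of_injective (fun c => ⟨⟨m⁻¹ * ((c : C) : U) * m, ?_⟩, ?_⟩)
    fun a b h => ?_)
  · have h : ((c : C) : U) • ((m : U) : U ⧸ K) = ((m : U) : U ⧸ K) := c.2
    rw [Quotient.smul_coe, smul_eq_mul, QuotientGroup.eq] at h
    have := K.inv_mem h
    simpa [mul_assoc] using this
  · have h := Subgroup.mem_centralizer_singleton_iff.mp (c : C).2
    show m⁻¹ * ((c : C) : U) * m * (m⁻¹ * t * m) = m⁻¹ * t * m * (m⁻¹ * ((c : C) : U) * m)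
    calc m⁻¹ * ((c : C) : U) * m * (m⁻¹ * t * m) = m⁻¹ * (((c : C) : U) * t) * m := by simp [mul_assoc]
      _ = _ := by rw [h]; simp [mul_assoc]
  · have h' := congrArg (fun z => ((z.1 : K) : U)) h
    simp only [mul_left_inj, mul_right_inj] at h'
    exact Subtype.ext (Subtype.ext h')

/-- Three levels of a stabiliser chain. -/
theorem card_chain {A X : Type*} [Group A] [Finite A] [MulAction A X] (p₀ p₁ p₂ : X) {n₀ n₁ n₂ : ℕ}
    (h₀ : ∃ l : Fin n₀ → A, Function.Injective fun i => l i • p₀)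
    (h₁ : ∃ l : Fin n₁ → A, (∀ i, l i • p₀ = p₀) ∧ Function.Injective fun i => l i • p₁)
    (h₂ : ∃ l : Fin n₂ → A, (∀ i, l i • p₀ = p₀ ∧ l i • p₁ = p₁) ∧
      Function.Injective fun i => l i • p₂) :
    n₀ * n₁ * n₂ * Nat.card {a : A // a • p₀ = p₀ ∧ a • p₁ = p₁ ∧ a • p₂ = p₂} ≤ Nat.card A := by
  obtain ⟨l₀, i₀⟩ := h₀
  obtain ⟨l₁, f₁, i₁⟩ := h₁
  obtain ⟨l₂, f₂, i₂⟩ := h₂
  let E : ((Fin n₀ × Fin n₁) × Fin n₂) × {a : A // a • p₀ = p₀ ∧ a • p₁ = p₁ ∧ a • p₂ = p₂} → A :=
    fun q => l₀ q.1.1.1 * l₁ q.1.1.2 * l₂ q.1.2 * q.2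
  have hE : Function.Injective E := by
    rintro ⟨⟨⟨a, b⟩, c⟩, d, hd⟩ ⟨⟨⟨a', b'⟩, c'⟩, d', hd'⟩ h
    simp only [E] at h
    have h0 := congrArg (· • p₀) h
    simp only [mul_smul, hd.1, hd'.1, (f₂ c).1, (f₂ c').1, f₁] at h0
    obtain rfl := i₀ h0
    simp only [mul_assoc, mul_right_inj] at h
    have h1 := congrArg (· • p₁) h
    simp only [mul_smul, hd.2.1, hd'.2.1, (f₂ c).2, (f₂ c').2] at h1
    obtain rfl := i₁ h1
    simp only [mul_right_inj] at h
    have h2 := congrArg (· • p₂) h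
    simp only [mul_smul, hd.2.2, hd'.2.2] at h2
    obtain rfl := i₂ h2
    simp only [mul_right_inj] at h
    subst h
    rfl
  have := Nat.card_le_card_of_injective E hE
  simpa [Nat.card_prod, Nat.card_fin] using this

end Cfsg.Agent.H44.Ly477
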