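import Cfsg.Agent.Compute.Chunk
import Cfsg.Agent.H34.Ly.Main
import Cfsg.Agent.H37.LyPerm.Count
import Cfsg.Agent.H44.Ly477.Data
import Cfsg.Agent.H44.Ly477.ClassData
import Cfsg.Agent.H44.Ly477.Counting

/-!
At least 15500 conjugates of the element of order three inside `G₂(5)`.
-/

set_option autoImplicit false
set_option Elab.async false
set_option maxRecDepth 100000
set_option linter.style.haveILetI false

namespace Cfsg.Agent.H44.Ly477

open Cfsg.Agent.Compute
open Cfsg.Agent.H27.LyG2 (K44 kgen lett Seven.S Seven.o)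
open Cfsg.Agent.H27.LyG2.Data (gens7)
open Cfsg.Agent.H45 (evalW evalW_cons evalW_append)
open Cfsg.Agent.H37.LyPerm (psi7 psi7_word psi7_inj card_K44_eq)

/-- element number `i` -/
noncomputable def clsEl (i : ℕ) : ℕ := H34.Ly.look 343 clsEls i
/-- depth of element `i` -/
noncomputable def clsDep (i : ℕ) : ℕ := Nat.div (H34.Ly.look 36 clsTree i) (2 ^ 24)
/-- letter leading to element `i` -/
noncomputable def clsGen (i : ℕ) : ℕ := Nat.mod (Nat.div (H34.Ly.look 36 clsTree i) (2 ^ 16)) 256
/-- predecessor of element `i` -/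
noncomputable def clsPar (i : ℕ) : ℕ := Nat.mod (H34.Ly.look 36 clsTree i) (2 ^ 16)

/-- matrix of the letter `j` of the tree -/
noncomputable def clsMat (j : ℕ) : ℕ := nth Seven.o.one gens7 (clsLett.getD j 0)
/-- matrix of the inverse of the letter `j` of the tree -/
noncomputable def clsMatI (j : ℕ) : ℕ := nth Seven.o.one gens7 (clsInv.getD j 0)

/-- the check of one element -/
noncomputable def clsAt (i : ℕ) : Bool :=
  cond (Nat.beq (clsDep i) 0) (Nat.beq (clsEl i) (H27.LyG2.Seven.evM xW))
    (Nat.blt (clsGen i) 8 && Nat.blt (clsPar i) 15500 && Nat.blt (clsDep (clsPar i)) (clsDep i) &&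
      Nat.beq (clsEl i) (Seven.o.mul (Seven.o.mul (clsMatI (clsGen i)) (clsEl (clsPar i))) (clsMat (clsGen i)))) &&
  (Nat.ble 15500 (i + 1) || Nat.blt (clsEl i) (clsEl (i + 1)))

theorem cls_ok : allN 15500 clsAt = true :=
  allN_of_chunks 2000 8 (by decide +kernel) (by
    intro k hk
    interval_cases k <;> decide +kernel)

theorem clsInv_ok : (allN 8 fun j =>
    Seven.o.eqv (Seven.o.mul (clsMatI j) (clsMat j)) Seven.o.one) = true := by decide +kernel

/-- the element of order three in `K44` -/
noncomputable def tX : K44 := evalW (lett kgen) xW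

theorem cls_conj (i : ℕ) (hi : i < 15500) :
    Seven.S.ok (clsEl i) ∧ ∃ u : K44, psi7 (u⁻¹ * tX * u) = Seven.S.den (clsEl i) := by
  induction hd : clsDep i using Nat.strong_induction_on generalizing i with
  | _ d ih =>
    have h := (allN_iff _ _).1 cls_ok i hi
    rw [clsAt, Bool.and_eq_true] at h
    cases hb : Nat.beq (clsDep i) 0
    · have h1 := h.1
      simp only [hb, cond_false, Bool.and_eq_true, Nat.blt_eq] at h1
      obtain ⟨⟨⟨hg, hp⟩, hdd⟩, he⟩ := h1
      obtain ⟨ok0, u, hu⟩ := ih _ (hd ▸ hdd) _ hp rfl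
      have og : Seven.S.ok (clsMat (clsGen i)) := H27.LyG2.Seven.gen_ok _
      have oi : Seven.S.ok (clsMatI (clsGen i)) := H27.LyG2.Seven.gen_ok _
      rw [Nat.eq_of_beq_eq_true he]
      refine ⟨Seven.S.ok_mul (Seven.S.ok_mul oi ok0) og,
        u * evalW (lett kgen) [clsLett.getD (clsGen i) 0], ?_⟩
      have hl : psi7 (evalW (lett kgen) [clsLett.getD (clsGen i) 0]) = Seven.S.den (clsMat (clsGen i)) := by
        rw [psi7_word, clsMat, ← H27.LyG2.Seven.lett_f]
        simp [evalW]
      have hinv : Seven.S.den (clsMatI (clsGen i)) = (Seven.S.den (clsMat (clsGen i)))⁻¹ := by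
        refine eq_inv_of_mul_eq_one_left ?_
        rw [← Seven.S.den_mul oi og, ← Seven.S.den_one]
        exact (Seven.S.eqv_iff (Seven.S.ok_mul oi og) Seven.S.ok_one).1
          ((allN_iff _ _).1 clsInv_ok _ hg)
      rw [Seven.S.den_mul (Seven.S.ok_mul oi ok0) og, Seven.S.den_mul oi ok0, hinv, ← hu, ← hl,
        ← map_inv, ← map_mul, ← map_mul]
      congr 1
      simp [mul_assoc]
    · have h1 := h.1
      rw [hb, cond_true] at h1
      rw [Nat.eq_of_beq_eq_true h1]
      exact ⟨(H27.LyG2.Seven.evM_ok _).1, 1, by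
        rw [inv_one, one_mul, mul_one, (H27.LyG2.Seven.evM_ok _).2]; exact psi7_word _⟩

theorem cls_mono {i j : ℕ} (hij : i < j) (hj : j < 15500) : clsEl i < clsEl j := by
  induction hij with
  | refl =>
    have h := (allN_iff _ _).1 cls_ok i (by omega)
    rw [clsAt, Bool.and_eq_true, Bool.or_eq_true, Nat.ble_eq, Nat.blt_eq] at h
    exact h.2.resolve_left (by omega)
  | @step m hm ih =>
    have h := (allN_iff _ _).1 cls_ok m (by omega)
    rw [clsAt, Bool.and_eq_true, Bool.or_eq_true, Nat.ble_eq, Nat.blt_eq] at h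
    exact (ih (by omega)).trans (h.2.resolve_left (by omega))

/-- The centraliser in `G₂(5)` of the element of order three has order at most 378000. -/
theorem card_centralizer_tX_le : Nat.card (Subgroup.centralizer ({tX} : Set K44)) ≤ 378000 := by
  classical
  haveI : Finite K44 := Nat.finite_of_card_ne_zero (by rw [card_K44_eq]; norm_num)
  choose hok u hu using fun i : Fin 15500 => cls_conj i i.2
  let f : Fin 15500 → K44 := fun i => (u i)⁻¹ * tX * u i
  have hf : Function.Injective f := by
    intro i j h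
    have h' : Seven.S.den (clsEl i) = Seven.S.den (clsEl j) := by
      rw [← hu i, ← hu j]; exact congrArg psi7 h
    have e : clsEl i = clsEl j := Nat.eq_of_beq_eq_true ((Seven.S.eqv_iff (hok i) (hok j)).2 h')
    rcases lt_trichotomy (i : ℕ) j with hlt | heq | hgt
    · exact absurd e (cls_mono hlt j.2).ne
    · exact Fin.ext heq
    · exact absurd e (cls_mono hgt i.2).ne'
  have h := card_centralizer_mul_le tX (Set.range f) (by rintro _ ⟨i, rfl⟩; exact ⟨u i, rfl⟩)
  rw [Nat.card_range_of_injective hf, Nat.card_fin, card_K44_eq] at h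
  omega

end Cfsg.Agent.H44.Ly477
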