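import Cfsg.Agent.H37.LyPerm.Count

/-!
Counting elements of certified lists: conjugates of an element of order three, and commutants.
-/

set_option autoImplicit false
set_option maxRecDepth 100000
set_option linter.style.haveILetI false

namespace Cfsg.Agent.H44.Ly477

open Cfsg.Agent.Compute
open Cfsg.Agent.H27.LyG2 (Seven.S Seven.o Seven.GL7 K44)
open Cfsg.Agent.H37.LyPerm (psi7 psi7_inj sub mgrp)
open scoped Pointwise

local instance : Fact (Nat.Prime 5) := ⟨by norm_num⟩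

/-- number of list elements passing a test -/
noncomputable def cnt (q : ℕ → Bool) (l : List (ℕ × ℕ)) : ℕ :=
  List.rec 0 (fun x _ ih => cond (q x.1) (ih + 1) ih) l

/-- the trace modulo five of a packed matrix -/
noncomputable def trP (M : ℕ) : ℕ :=
  Nat.mod (getP 7 M 0 + getP 7 M 8 + getP 7 M 16 + getP 7 M 24 + getP 7 M 32 + getP 7 M 40 + getP 7 M 48) 5

/-- the property of being like the element of order three -/
def Like (a : Seven.GL7) : Prop :=
  a ^ 3 = 1 ∧ a ≠ 1 ∧ Matrix.trace (a : Matrix (Fin 7) (Fin 7) (ZMod 5)) = 3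

/-- the test for `Like` -/
noncomputable def likeB (M : ℕ) : Bool :=
  Seven.o.eqv (Seven.o.mul (Seven.o.mul M M) M) Seven.o.one && !(Seven.o.eqv M Seven.o.one) &&
    Nat.beq (trP M) 3

theorem likeB_of_like {M : ℕ} (hM : Seven.S.ok M) (h : Like (Seven.S.den M)) : likeB M = true := by
  obtain ⟨h3, h1, ht⟩ := h
  rw [likeB, Bool.and_eq_true, Bool.and_eq_true]
  refine ⟨⟨?_, ?_⟩, ?_⟩
  · refine (Seven.S.eqv_iff (Seven.S.ok_mul (Seven.S.ok_mul hM hM) hM) Seven.S.ok_one).2 ?_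
    rw [Seven.S.den_mul (Seven.S.ok_mul hM hM) hM, Seven.S.den_mul hM hM, Seven.S.den_one, ← h3]
    simp [pow_succ]
  · cases hb : Seven.o.eqv M Seven.o.one
    · rfl
    · exact absurd (((Seven.S.eqv_iff hM Seven.S.ok_one).1 hb).trans Seven.S.den_one) h1
  · rw [show (Seven.S.den M : Matrix (Fin 7) (Fin 7) (ZMod 5)) = toMat 7 7 5 M from matDen_coe hM] at ht
    have h2 : ((getP 7 M 0 + getP 7 M 8 + getP 7 M 16 + getP 7 M 24 + getP 7 M 32 + getP 7 M 40 +
        getP 7 M 48 : ℕ) : ZMod 5) = ((3 : ℕ) : ZMod 5) := by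
      rw [Nat.cast_ofNat (R := ZMod 5) (n := 3), ← ht]
      simp [Matrix.trace, Fin.sum_univ_seven, toMat]
    rw [ZMod.natCast_eq_natCast_iff'] at h2
    exact Nat.beq_eq.mpr h2

/-- the test for commuting with `k` -/
noncomputable def commB (k M : ℕ) : Bool := Seven.o.eqv (Seven.o.mul M k) (Seven.o.mul k M)

theorem commB_of_comm {k M : ℕ} (hk : Seven.S.ok k) (hM : Seven.S.ok M)
    (h : Seven.S.den M * Seven.S.den k = Seven.S.den k * Seven.S.den M) : commB k M = true := by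
  refine (Seven.S.eqv_iff (Seven.S.ok_mul hM hk) (Seven.S.ok_mul hk hM)).2 ?_
  rw [Seven.S.den_mul hM hk, Seven.S.den_mul hk hM, h]

theorem count_bound (W : Subgroup Seven.GL7) (l : List (ℕ × ℕ))
    (hall : ∀ a ∈ W, ∃ x ∈ l, Seven.S.den x.1 = a) (hok : ∀ x ∈ l, Seven.S.ok x.1)
    (Q : Seven.GL7 → Prop) (q : ℕ → Bool)
    (hq : ∀ M, Seven.S.ok M → Q (Seven.S.den M) → q M = true) :
    Nat.card {a : W // Q (a : Seven.GL7)} ≤ cnt q l := by
  classical
  have hc : ∀ m : List (ℕ × ℕ), (m.filter fun x => q x.1).length = cnt q m := by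
    intro m
    induction m with
    | nil => rfl
    | cons a t ih =>
      rw [List.filter_cons]
      show _ = cond _ (cnt q t + 1) (cnt q t)
      cases hb : q a.1
      · simpa using ih
      · simp [ih]
  rw [← hc l]
  refine le_trans (Nat.card_le_card_of_injective
    (fun a : {a : W // Q (a : Seven.GL7)} =>
      (⟨((a : W) : Seven.GL7), ?_⟩ :
        {b // b ∈ ((l.filter fun x => q x.1).map fun x => Seven.S.den x.1).toFinset}))
    fun a b h => Subtype.ext (Subtype.ext (congrArg Subtype.val h :))) ?_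
  · obtain ⟨⟨a, ha⟩, h⟩ := a
    obtain ⟨x, hx, rfl⟩ := hall a ha
    rw [List.mem_toFinset, List.mem_map]
    exact ⟨x, List.mem_filter.2 ⟨hx, hq _ (hok x hx) h⟩, rfl⟩
  · rw [Nat.card_eq_finsetCard]
    exact (List.toFinset_card_le _).trans (le_of_eq (List.length_map _))

/-- from matrices back to `K44` -/
theorem card_sub_le (W : List (List ℕ)) (Q : Seven.GL7 → Prop) {n : ℕ} [Finite (mgrp W)]
    (h : Nat.card {a : mgrp W // Q (a : Seven.GL7)} ≤ n) :
    Nat.card {k : sub W // Q (psi7 (k : K44))} ≤ n :=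
  le_trans (Nat.card_le_card_of_injective
    (fun k => (⟨⟨psi7 ((k : sub W) : K44), (k : sub W).2⟩, k.2⟩ : {a : mgrp W // Q (a : Seven.GL7)}))
    fun a b hab => Subtype.ext (Subtype.ext (psi7_inj
      (congrArg Subtype.val (congrArg Subtype.val hab) :)))) h

/-- Elements of order three of `P L`. -/
theorem semidirect_three (P L : Subgroup Seven.GL7) (hLP : L ≤ Subgroup.normalizer (P : Set Seven.GL7))
    (hdis : ∀ x ∈ P, x ∈ L → x = 1) (hP3 : ∀ a ∈ P, a ^ 3 = 1 → a = 1)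
    (il : List ℕ) (hil : ∀ b ∈ L, b ^ 3 = 1 → b = 1 ∨ ∃ u ∈ il, Seven.S.den u = b) {n : ℕ}
    (hc : ∀ j < il.length, Nat.card {a : P // ((a : Seven.GL7) * Seven.S.den (il.getD j 0)) ^ 3 = 1} ≤ n) :
    Nat.card {k : (P ⊔ L : Subgroup Seven.GL7) // Like (k : Seven.GL7)} ≤ il.length * n := by
  classical
  have hsplit : ∀ k : {k : (P ⊔ L : Subgroup Seven.GL7) // Like (k : Seven.GL7)},
      ∃ j : Fin il.length, ∃ a : {a : P // ((a : Seven.GL7) * Seven.S.den (il.getD j.val 0)) ^ 3 = 1},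
        ((a : P) : Seven.GL7) * Seven.S.den (il.getD j.val 0) = (k : Seven.GL7) := by
    rintro ⟨⟨k, hk⟩, hk3, hk1, -⟩
    have hk' : k ∈ ((P : Set Seven.GL7) * (L : Set Seven.GL7)) := by
      rw [← Subgroup.coe_mul_of_right_le_normalizer_left P L hLP]; exact hk
    obtain ⟨a, ha, b, hb, rfl⟩ := hk'
    dsimp only at hk3 hk1
    have hn : ∀ c ∈ L, ∀ y ∈ P, c * y * c⁻¹ ∈ P := fun c hc y hy =>
      (Subgroup.mem_normalizer_iff.1 (hLP hc) y).1 hy
    have e : a * (b * a * b⁻¹) * (b * b * a * (b * b)⁻¹) * b ^ 3 = (a * b) ^ 3 := by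
      simp [pow_succ, mul_assoc]
    have hb3 : b ^ 3 = 1 := by
      refine hdis _ ?_ (L.pow_mem hb 3)
      have h2 := P.mul_mem (P.mul_mem ha (hn b hb a ha)) (hn (b * b) (L.mul_mem hb hb) a ha)
      rw [hk3] at e
      rw [eq_inv_of_mul_eq_one_right e]
      exact P.inv_mem h2
    rcases hil b hb hb3 with rfl | ⟨u, hu, rfl⟩
    · exact absurd (by rw [mul_one, hP3 a ha (by simpa using hk3)]) hk1
    · obtain ⟨j, hj, rfl⟩ := List.getElem_of_mem hu
      refine ⟨⟨j, hj⟩, ⟨⟨a, ha⟩, ?_⟩, ?_⟩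
      · rw [List.getD_eq_getElem _ _ hj]; exact hk3
      · show a * Seven.S.den (il.getD j 0) = a * Seven.S.den il[j]
        rw [List.getD_eq_getElem _ _ hj]
  choose jf af hjaf using hsplit
  haveI : Finite Seven.GL7 := inferInstance
  refine le_trans (Nat.card_le_card_of_injective
    (fun k => (⟨jf k, af k⟩ : Σ j : Fin il.length,
      {a : P // ((a : Seven.GL7) * Seven.S.den (il.getD j.val 0)) ^ 3 = 1})) fun k k' h => ?_) ?_
  · have e : ∀ (s t : Σ j : Fin il.length,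
        {a : P // ((a : Seven.GL7) * Seven.S.den (il.getD j.val 0)) ^ 3 = 1}), s = t →
        ((s.2 : P) : Seven.GL7) * Seven.S.den (il.getD s.1.val 0) =
          ((t.2 : P) : Seven.GL7) * Seven.S.den (il.getD t.1.val 0) := fun s t h => by rw [h]
    have := e _ _ h
    rw [hjaf, hjaf] at this
    exact Subtype.ext (Subtype.ext this)
  · rw [Nat.card_sigma]
    exact (Finset.sum_le_sum fun j _ => hc j.val j.2).trans (by simp)

/-- The centraliser in `P L` of an element of `L`. -/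
theorem semidirect_comm (P L : Subgroup Seven.GL7) (hLP : L ≤ Subgroup.normalizer (P : Set Seven.GL7))
    (hdis : ∀ x ∈ P, x ∈ L → x = 1) (k : Seven.GL7) (hk : k ∈ L) :
    Nat.card {a : (P ⊔ L : Subgroup Seven.GL7) // (a : Seven.GL7) * k = k * (a : Seven.GL7)} ≤
      Nat.card {a : P // (a : Seven.GL7) * k = k * (a : Seven.GL7)} *
        Nat.card {a : L // (a : Seven.GL7) * k = k * (a : Seven.GL7)} := by
  classical
  have hsplit : ∀ c : {a : (P ⊔ L : Subgroup Seven.GL7) // (a : Seven.GL7) * k = k * (a : Seven.GL7)},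
      ∃ (a : {a : P // (a : Seven.GL7) * k = k * (a : Seven.GL7)})
        (b : {a : L // (a : Seven.GL7) * k = k * (a : Seven.GL7)}),
        ((a : P) : Seven.GL7) * ((b : L) : Seven.GL7) = (c : Seven.GL7) := by
    rintro ⟨⟨c, hc⟩, hck⟩
    have hc' : c ∈ ((P : Set Seven.GL7) * (L : Set Seven.GL7)) := by
      rw [← Subgroup.coe_mul_of_right_le_normalizer_left P L hLP]; exact hc
    obtain ⟨a, ha, b, hb, rfl⟩ := hc'
    dsimp only at hck
    have h1 : k * a * k⁻¹ ∈ P := (Subgroup.mem_normalizer_iff.1 (hLP hk) a).1 ha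
    have e : (k * a * k⁻¹)⁻¹ * a = k * b * k⁻¹ * b⁻¹ := by
      calc (k * a * k⁻¹)⁻¹ * a = k * (a⁻¹ * ((k⁻¹ * (a * b * k)) * k⁻¹)) * b⁻¹ := by simp [mul_assoc]
        _ = k * b * k⁻¹ * b⁻¹ := by rw [hck]; simp [mul_assoc]
    have h2 : (k * a * k⁻¹)⁻¹ * a = 1 := hdis _ (P.mul_mem (P.inv_mem h1) ha)
      (e ▸ L.mul_mem (L.mul_mem (L.mul_mem hk hb) (L.inv_mem hk)) (L.inv_mem hb))
    have hak : a * k = k * a := by
      rw [inv_mul_eq_one, mul_inv_eq_iff_eq_mul] at h2
      exact h2.symm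
    refine ⟨⟨⟨a, ha⟩, hak⟩, ⟨⟨b, hb⟩, ?_⟩, rfl⟩
    rw [h2] at e
    have e2 := e.symm
    rw [mul_inv_eq_one, mul_inv_eq_iff_eq_mul] at e2
    exact e2.symm
  choose af bf hab using hsplit
  refine le_trans (Nat.card_le_card_of_injective (fun c => (af c, bf c)) fun c c' h => ?_)
    (le_of_eq (Nat.card_prod _ _))
  simp only [Prod.mk.injEq] at h
  exact Subtype.ext (Subtype.ext (by rw [← hab c, ← hab c', h.1, h.2]))

end Cfsg.Agent.H44.Ly477
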