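import Cfsg.Agent.H37.LyPerm.Count
import Cfsg.Agent.H27.LyRep.Card

/-!
The cosets of `⟨a, b, c, d⟩` in the Lyons group as the disjoint union of five coset spaces of `G₂(5)`.
-/

set_option autoImplicit false
set_option linter.style.haveILetI false

namespace Cfsg.Agent.H44.Ly477

open Cfsg.Agent.H27.LyG2 (K44 H4 range_flY)
open Cfsg.Agent.H37.LyPerm (phiK phiK_inj gR KS KS_conj index_KS cover card_K44_eq le_of_mul_lt)
open Cfsg.Agent.H27.LyRep (rho_injective index_H4)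

theorem finite_K44 : Finite K44 := Nat.finite_of_card_ne_zero (by rw [card_K44_eq]; norm_num)

theorem finite_G : Finite Cfsg.Spor.Ly := Cfsg.Agent.H34.Ly.finite_ly

theorem phiK_mem (u : K44) : phiK u ∈ H4 := range_flY.le ⟨u, rfl⟩

theorem mem_H4_iff (g : Cfsg.Spor.Ly) : g ∈ H4 ↔ ∃ u : K44, phiK u = g := by
  constructor
  · intro h
    exact MonoidHom.mem_range.1 (range_flY.ge h)
  · rintro ⟨u, rfl⟩
    exact phiK_mem u

/-- one orbit -/
noncomputable def phiO (i : Fin 5) : K44 ⧸ KS i → Cfsg.Spor.Ly ⧸ H4 :=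
  Quotient.lift (fun u : K44 => ((phiK u * gR i : Cfsg.Spor.Ly) : Cfsg.Spor.Ly ⧸ H4)) fun a b hab => by
    have h := KS_conj rho_injective i _ (QuotientGroup.leftRel_apply.mp hab)
    refine QuotientGroup.eq.mpr ?_
    simpa [mul_assoc] using h

theorem phiO_mk (i : Fin 5) (u : K44) :
    phiO i (u : K44 ⧸ KS i) = ((phiK u * gR i : Cfsg.Spor.Ly) : Cfsg.Spor.Ly ⧸ H4) := rfl

theorem phiO_smul (i : Fin 5) (u : K44) (q : K44 ⧸ KS i) :
    phiO i (u • q) = phiK u • phiO i q := by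
  induction q using QuotientGroup.induction_on with
  | _ v =>
    rw [MulAction.Quotient.smul_coe, smul_eq_mul, phiO_mk, phiO_mk, MulAction.Quotient.smul_coe,
      smul_eq_mul, map_mul, mul_assoc]

/-- all five orbits -/
noncomputable def phiS : (Σ i : Fin 5, K44 ⧸ KS i) → Cfsg.Spor.Ly ⧸ H4 := fun p => phiO p.1 p.2

theorem phiS_bijective : Function.Bijective phiS := by
  haveI := finite_K44
  haveI := finite_G
  have hs : Function.Surjective phiS := by
    intro x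
    induction x using QuotientGroup.induction_on with
    | _ x =>
      obtain ⟨i, hi, ⟨h, hh4⟩, hh⟩ := cover x
      obtain ⟨u, rfl⟩ := (mem_H4_iff h).1 hh4
      exact ⟨⟨⟨i, hi⟩, (u : K44 ⧸ KS _)⟩, (QuotientGroup.eq.mpr hh).symm⟩
  refine ⟨?_, hs⟩
  have hle : Nat.card (Σ i : Fin 5, K44 ⧸ KS i) ≤ Nat.card (Cfsg.Spor.Ly ⧸ H4) := by
    rw [Nat.card_sigma]
    show ∑ i, (KS i).index ≤ H4.index
    rw [index_H4, Fin.sum_univ_five]
    have h0 : (KS 0).index ≤ 1 := le_of_mul_lt (index_KS 0) (show 5859000000 < (1 + 1) * 5859000000 by norm_num)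
    have h1 : (KS 1).index ≤ 19530 := le_of_mul_lt (index_KS 1) (show 5859000000 < (19530 + 1) * 300000 by norm_num)
    have h2 : (KS 2).index ≤ 968750 := le_of_mul_lt (index_KS 2) (show 5859000000 < (968750 + 1) * 6048 by norm_num)
    have h3 : (KS 3).index ≤ 5812500 := le_of_mul_lt (index_KS 3) (show 5859000000 < (5812500 + 1) * 1008 by norm_num)
    have h4 : (KS 4).index ≤ 2034375 := le_of_mul_lt (index_KS 4) (show 5859000000 < (2034375 + 1) * 2880 by norm_num)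
    omega
  exact (hs.bijective_of_nat_card_le hle).1

/-- Fixed cosets, orbit by orbit. -/
theorem card_fixed (t : K44) :
    Nat.card (MulAction.fixedBy (Cfsg.Spor.Ly ⧸ H4) (phiK t)) =
      ∑ i, Nat.card (MulAction.fixedBy (K44 ⧸ KS i) t) := by
  haveI := finite_K44
  rw [← Nat.card_sigma]
  refine (Nat.card_eq_of_bijective (fun p : (Σ i, MulAction.fixedBy (K44 ⧸ KS i) t) =>
    (⟨phiO p.1 p.2.1, by rw [MulAction.mem_fixedBy, ← phiO_smul, p.2.2]⟩ :
      MulAction.fixedBy (Cfsg.Spor.Ly ⧸ H4) (phiK t))) ⟨?_, ?_⟩).symm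
  · rintro ⟨i, q, hq⟩ ⟨j, r, hr⟩ h
    have := @phiS_bijective.1 ⟨i, q⟩ ⟨j, r⟩ (congrArg Subtype.val h)
    cases this
    rfl
  · rintro ⟨x, hx⟩
    obtain ⟨⟨i, q⟩, rfl⟩ := phiS_bijective.2 x
    change phiK t • phiO i q = phiO i q at hx
    rw [← phiO_smul] at hx
    have h := @phiS_bijective.1 ⟨i, t • q⟩ ⟨i, q⟩ hx
    exact ⟨⟨i, q, by simpa using h⟩, rfl⟩

end Cfsg.Agent.H44.Ly477
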