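import Cfsg.Agent.H44.Ly477.CountEngine
import Cfsg.Agent.H44.Ly477.Class
import Cfsg.Agent.H44.Ly477.Orbits

/-!
Conjugates of the element of order three in the five orbit stabilisers, and their commutants there.
-/

set_option autoImplicit false
set_option Elab.async false
set_option maxRecDepth 100000
set_option linter.style.haveILetI false

namespace Cfsg.Agent.H44.Ly477

open Cfsg.Agent.Compute
open Cfsg.Agent.H27.LyG2 (Seven.S Seven.o Seven.GL7 K44 kgen lett)
open Cfsg.Agent.H45 (evalW)
open Cfsg.Agent.H37.LyPerm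
open Cfsg.Agent.H37.LyPerm.Data

local instance : Fact (Nat.Prime 5) := ⟨by norm_num⟩

/-- inverse letters of the seven-dimensional alphabet -/
def inv7 (l : ℕ) : ℕ := if l % 2 = 0 then l + 1 else l - 1

/-- word of the conjugate of `xW` by the word `w` -/
def conjX (w : List ℕ) : List ℕ := (w.map inv7).reverse ++ xW ++ w

/-- the inverse word is inverse -/
noncomputable def invWOK (w : List ℕ) : Bool :=
  Seven.o.eqv (H27.LyG2.Seven.evM ((w.map inv7).reverse ++ w)) Seven.o.one

theorem inv_ok1 : invWOK wW1 = true := by decide +kernel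
theorem inv_ok2 : invWOK wW2 = true := by decide +kernel
theorem inv_ok3 : invWOK wW3 = true := by decide +kernel
theorem inv_ok4 : invWOK wW4 = true := by decide +kernel

/-- the element of a word in `K44` -/
noncomputable def kW (w : List ℕ) : K44 := evalW (lett kgen) w

theorem kW_append (u v : List ℕ) : kW (u ++ v) = kW u * kW v := H45.evalW_append _ _ _

theorem psi_kW (w : List ℕ) : psi7 (kW w) = Seven.S.den (H27.LyG2.Seven.evM w) := by
  rw [(H27.LyG2.Seven.evM_ok w).2]; exact psi7_word w

theorem kW_inv {w : List ℕ} (h : invWOK w = true) : kW (w.map inv7).reverse = (kW w)⁻¹ := by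
  refine eq_inv_of_mul_eq_one_left (psi7_inj ?_)
  rw [← kW_append, psi_kW, map_one, ← Seven.S.den_one]
  exact (Seven.S.eqv_iff (H27.LyG2.Seven.evM_ok _).1 Seven.S.ok_one).1 h

theorem kW_conj {w : List ℕ} (h : invWOK w = true) :
    kW (conjX w) = (kW w)⁻¹ * tX * kW w := by
  rw [conjX, kW_append, kW_append, kW_inv h]
  rfl

theorem cnt_two : Nat.ble (cnt likeB LTwo) 56 = true := by decide +kernel
theorem cnt_four : Nat.ble (cnt likeB LFour) 2 = true := by decide +kernel
theorem cnt_three : Nat.ble (cnt likeB LThree) 20 = true := by decide +kernel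

theorem com_two : Nat.ble (cnt (commB (H27.LyG2.Seven.evM (conjX wW2))) LTwo) 108 = true := by
  decide +kernel
theorem com_four : Nat.ble (cnt (commB (H27.LyG2.Seven.evM (conjX wW3))) LFour) 504 = true := by
  decide +kernel
theorem com_three : Nat.ble (cnt (commB (H27.LyG2.Seven.evM (conjX wW4))) LThree) 144 = true := by
  decide +kernel
theorem com_pee : Nat.ble (cnt (commB (H27.LyG2.Seven.evM (conjX wW1))) LPee) 125 = true := by
  decide +kernel
theorem com_ell : Nat.ble (cnt (commB (H27.LyG2.Seven.evM (conjX wW1))) LEll) 12 = true := by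
  decide +kernel
theorem mem_ell : (look (treeOf 7 LEll) (H27.LyG2.Seven.evM (conjX wW1))).isSome = true := by
  decide +kernel

/-- elements of order three lie in the short list -/
noncomputable def threeIn (il : List ℕ) (l : List (ℕ × ℕ)) : Bool :=
  lall l fun x => cond (Seven.o.eqv (Seven.o.mul (Seven.o.mul x.1 x.1) x.1) Seven.o.one)
    (Seven.o.eqv x.1 Seven.o.one || il.any (Nat.beq x.1)) true

theorem il3_in : threeIn ilThree LEll = true := by decide +kernel
theorem il3_ok : (ilThree.all fun u => (look (treeOf 7 LEll) u).isSome) = true := by decide +kernel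

/-- the cube of `M u` is one -/
noncomputable def cubeB (u M : ℕ) : Bool :=
  Seven.o.eqv (Seven.o.mul (Seven.o.mul (Seven.o.mul M u) (Seven.o.mul M u)) (Seven.o.mul M u)) Seven.o.one

theorem cub0 : Nat.ble (cnt (cubeB (ilThree.getD 0 0)) LPee) 25 = true := by decide +kernel
theorem cub1 : Nat.ble (cnt (cubeB (ilThree.getD 1 0)) LPee) 25 = true := by decide +kernel
theorem cub2 : Nat.ble (cnt (cubeB (ilThree.getD 2 0)) LPee) 25 = true := by decide +kernel
theorem cub3 : Nat.ble (cnt (cubeB (ilThree.getD 3 0)) LPee) 25 = true := by decide +kernel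
theorem cub4 : Nat.ble (cnt (cubeB (ilThree.getD 4 0)) LPee) 25 = true := by decide +kernel
theorem cub5 : Nat.ble (cnt (cubeB (ilThree.getD 5 0)) LPee) 25 = true := by decide +kernel
theorem cub6 : Nat.ble (cnt (cubeB (ilThree.getD 6 0)) LPee) 25 = true := by decide +kernel
theorem cub7 : Nat.ble (cnt (cubeB (ilThree.getD 7 0)) LPee) 25 = true := by decide +kernel

theorem cub_pee (j : ℕ) (hj : j < 8) : Nat.ble (cnt (cubeB (ilThree.getD j 0)) LPee) 25 = true := by
  interval_cases j
  exacts [cub0, cub1, cub2, cub3, cub4, cub5, cub6, cub7]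

attribute [local irreducible] Seven.S mulMat oneMat

theorem spec_two : Nat.card {a : mgrp WTwo // Like (a : Seven.GL7)} ≤ 56 ∧
    Nat.card {a : mgrp WTwo // (a : Seven.GL7) * psi7 (kW (conjX wW2)) =
      psi7 (kW (conjX wW2)) * (a : Seven.GL7)} ≤ 108 := by
  obtain ⟨-, -, hok, hall⟩ := closure_spec gTwo_eq oneTwo incrTwo allTwo
  refine ⟨(count_bound _ _ hall (fun x hx => (hok x hx).1) _ likeB fun M hM h => likeB_of_like hM h).trans
    (Nat.le_of_ble_eq_true cnt_two), ?_⟩
  simp only [psi_kW]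
  exact (count_bound _ _ hall (fun x hx => (hok x hx).1) (fun a => a * Seven.S.den _ = Seven.S.den _ * a) _
    fun M hM h => commB_of_comm (H27.LyG2.Seven.evM_ok _).1 hM h).trans (Nat.le_of_ble_eq_true com_two)

theorem spec_four : Nat.card {a : mgrp WFour // Like (a : Seven.GL7)} ≤ 2 ∧
    Nat.card {a : mgrp WFour // (a : Seven.GL7) * psi7 (kW (conjX wW3)) =
      psi7 (kW (conjX wW3)) * (a : Seven.GL7)} ≤ 504 := by
  obtain ⟨-, -, hok, hall⟩ := closure_spec gFour_eq oneFour incrFour allFour
  refine ⟨(count_bound _ _ hall (fun x hx => (hok x hx).1) _ likeB fun M hM h => likeB_of_like hM h).trans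
    (Nat.le_of_ble_eq_true cnt_four), ?_⟩
  simp only [psi_kW]
  exact (count_bound _ _ hall (fun x hx => (hok x hx).1) (fun a => a * Seven.S.den _ = Seven.S.den _ * a) _
    fun M hM h => commB_of_comm (H27.LyG2.Seven.evM_ok _).1 hM h).trans (Nat.le_of_ble_eq_true com_four)

theorem spec_three : Nat.card {a : mgrp WThree // Like (a : Seven.GL7)} ≤ 20 ∧
    Nat.card {a : mgrp WThree // (a : Seven.GL7) * psi7 (kW (conjX wW4)) =
      psi7 (kW (conjX wW4)) * (a : Seven.GL7)} ≤ 144 := by
  obtain ⟨-, -, hok, hall⟩ := closure_spec gThree_eq oneThree incrThree allThree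
  refine ⟨(count_bound _ _ hall (fun x hx => (hok x hx).1) _ likeB fun M hM h => likeB_of_like hM h).trans
    (Nat.le_of_ble_eq_true cnt_three), ?_⟩
  simp only [psi_kW]
  exact (count_bound _ _ hall (fun x hx => (hok x hx).1) (fun a => a * Seven.S.den _ = Seven.S.den _ * a) _
    fun M hM h => commB_of_comm (H27.LyG2.Seven.evM_ok _).1 hM h).trans (Nat.le_of_ble_eq_true com_three)

theorem spec_para : Nat.card {a : mgrp (WPee ++ WEll) // Like (a : Seven.GL7)} ≤ 200 ∧
    Nat.card {a : mgrp (WPee ++ WEll) // (a : Seven.GL7) * psi7 (kW (conjX wW1)) =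
      psi7 (kW (conjX wW1)) * (a : Seven.GL7)} ≤ 1500 := by
  rw [mgrp_append]
  obtain ⟨-, -, hokP, hallP⟩ := closure_spec gPee_eq onePee incrPee allPee
  obtain ⟨-, -, hokL, hallL⟩ := closure_spec gEll_eq oneEll incrEll allEll
  have hN := normalizes (W := WPee) (V := List.zip WEll WEllInv) gPee_eq hokP norm_ok
  rw [zip_fst] at hN
  have hdis : ∀ x ∈ mgrp WPee, x ∈ mgrp WEll → x = 1 := fun x hx hx' => by
    refine orderOf_eq_one_iff.1 (Nat.eq_one_of_dvd_coprimes (show Nat.Coprime 3125 96 by norm_num) ?_ ?_)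
    · rw [← specPee.1]; exact (mgrp WPee).orderOf_dvd_natCard hx
    · rw [← specEll.1]; exact (mgrp WEll).orderOf_dvd_natCard hx'
  have hoku : ∀ u ∈ ilThree, Seven.S.ok u := ok_of_look (fun x hx => (hokL x hx).1) il3_ok
  have hlen : ilThree.length = 8 := rfl
  refine ⟨(semidirect_three _ _ hN hdis (fun a ha h => ?_) ilThree ?_ (n := 25) ?_).trans
    (by rw [hlen]), ?_⟩
  · refine orderOf_eq_one_iff.1 (Nat.eq_one_of_dvd_coprimes (show Nat.Coprime 3125 3 by norm_num) ?_
      (orderOf_dvd_of_pow_eq_one h))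
    rw [← specPee.1]; exact (mgrp WPee).orderOf_dvd_natCard ha
  · intro b hb hbb
    obtain ⟨x, hx, rfl⟩ := hallL b hb
    have h := (lall_iff _ _).1 il3_in x hx
    have ok := (hokL x hx).1
    have e : Seven.o.eqv (Seven.o.mul (Seven.o.mul x.1 x.1) x.1) Seven.o.one = true :=
      (Seven.S.eqv_iff (Seven.S.ok_mul (Seven.S.ok_mul ok ok) ok) Seven.S.ok_one).2
        (by rw [Seven.S.den_mul (Seven.S.ok_mul ok ok) ok, Seven.S.den_mul ok ok, Seven.S.den_one, ← hbb]
            simp [pow_succ])
    rw [e, cond_true, Bool.or_eq_true] at h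
    rcases h with h | h
    · exact Or.inl (((Seven.S.eqv_iff ok Seven.S.ok_one).1 h).trans Seven.S.den_one)
    · obtain ⟨u, hu, he⟩ := List.any_eq_true.1 h
      exact Or.inr ⟨u, hu, by rw [Nat.eq_of_beq_eq_true he]⟩
  · intro j hj
    have hu : Seven.S.ok (ilThree.getD j 0) := by
      rw [List.getD_eq_getElem _ _ hj]; exact hoku _ (List.getElem_mem hj)
    refine (count_bound (mgrp WPee) LPee hallP (fun x hx => (hokP x hx).1)
      (fun a => (a * Seven.S.den (ilThree.getD j 0)) ^ 3 = 1) (cubeB (ilThree.getD j 0))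
      fun M hM h => ?_).trans (Nat.le_of_ble_eq_true (cub_pee j (hlen ▸ hj)))
    have o1 := Seven.S.ok_mul hM hu
    refine (Seven.S.eqv_iff (Seven.S.ok_mul (Seven.S.ok_mul o1 o1) o1) Seven.S.ok_one).2 ?_
    rw [Seven.S.den_mul (Seven.S.ok_mul o1 o1) o1, Seven.S.den_mul o1 o1, Seven.S.den_mul hM hu,
      Seven.S.den_one, ← h]
    simp [pow_succ]
  · obtain ⟨x, hx, hxe⟩ := mem_of_look mem_ell
    have hk : psi7 (kW (conjX wW1)) ∈ mgrp WEll := by rw [psi_kW, ← hxe]; exact (hokL x hx).2
    refine (semidirect_comm _ _ hN hdis _ hk).trans ?_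
    simp only [psi_kW]
    exact (Nat.mul_le_mul
      ((count_bound _ _ hallP (fun x hx => (hokP x hx).1) (fun a => a * Seven.S.den _ = Seven.S.den _ * a) _
        fun M hM h => commB_of_comm (H27.LyG2.Seven.evM_ok _).1 hM h).trans (Nat.le_of_ble_eq_true com_pee))
      ((count_bound _ _ hallL (fun x hx => (hokL x hx).1) (fun a => a * Seven.S.den _ = Seven.S.den _ * a) _
        fun M hM h => commB_of_comm (H27.LyG2.Seven.evM_ok _).1 hM h).trans (Nat.le_of_ble_eq_true com_ell))).trans
      (by norm_num)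

end Cfsg.Agent.H44.Ly477
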