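import Mathlib

/-!
A group of order `3 * 898128000` acting on 7128 points with stabiliser orbits `1, 252, 750, 2625, 3500`
whose elements of order eleven generate the stabiliser modulo the kernel is simple modulo that kernel.
-/

set_option autoImplicit false
set_option linter.style.haveILetI false

namespace Cfsg.Agent.H44.Ly477

open MulAction

theorem quotient_simple {C X : Type*} [Group C] [Finite C] [MulAction C X] [Finite X]
    [IsPretransitive C X] (b : X) (hX : Nat.card X = 7128)
    (hC : Nat.card C = 2694384000)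
    (p : Fin 4 → X) (hp : ∀ i, Nat.card (orbit (stabilizer C b) (p i)) = ![252, 3500, 750, 2625] i)
    (hdis : ∀ i j, p j ∈ orbit (stabilizer C b) (p i) → i = j) (hb : ∀ i, p i ≠ b)
    (Z : Subgroup C) [Z.Normal] (hZ : Nat.card Z = 3) (hker : ∀ c : C, (∀ x : X, c • x = x) → c ∈ Z)
    (W : List C) (hW : ∀ w ∈ W, w ^ 11 = 1)
    (hgen : stabilizer C b ≤ Subgroup.closure {w | w ∈ W} ⊔ Z) :
    IsSimpleGroup (C ⧸ Z) ∧ Nat.card (C ⧸ Z) = 898128000 ∧ Subgroup.center C ≤ Z := by
  classical
  have hcard : Nat.card (C ⧸ Z) = 898128000 := by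
    have h := Z.index_mul_card
    rw [hC, hZ] at h
    show Z.index = _
    omega
  have key : ∀ N : Subgroup C, N.Normal → Z ≤ N → N = Z ∨ N = ⊤ := by
    intro N hN hZN
    set B := orbit N b with hBdef
    have hSB : ∀ s : stabilizer C b, ∀ y ∈ B, (s : C) • y ∈ B := by
      rintro s y ⟨n, rfl⟩
      refine ⟨⟨(s : C) * n * (s : C)⁻¹, hN.conj_mem _ n.2 _⟩, ?_⟩
      show ((s : C) * n * (s : C)⁻¹) • b = (s : C) • (n : C) • b
      have hs : (s : C)⁻¹ • b = b := by rw [inv_smul_eq_iff]; exact s.2.symm
      rw [mul_smul, mul_smul, hs]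
    -- the point, and the four orbits, fill the set
    let O : Fin 4 → Finset X := fun i => (orbit (stabilizer C b) (p i)).toFinite.toFinset
    have hmemO : ∀ i y, y ∈ O i ↔ y ∈ orbit (stabilizer C b) (p i) := fun i y => Set.Finite.mem_toFinset _
    have hOc : ∀ i, (O i).card = ![252, 3500, 750, 2625] i := fun i => by
      rw [← hp i, Nat.card_coe_set_eq, Set.ncard_eq_toFinset_card _ (Set.toFinite _)]
    have hpd : ∀ i j, i ≠ j → Disjoint (O i) (O j) := fun i j hij => by
      rw [Finset.disjoint_left]
      intro y hyi hyj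
      rw [hmemO] at hyi hyj
      have e1 := orbit_eq_iff.2 hyi
      have e2 := orbit_eq_iff.2 hyj
      exact hij (hdis i j ((e2.symm.trans e1) ▸ mem_orbit_self (p j)))
    have hbO : ∀ i, b ∉ O i := fun i h => by
      rw [hmemO] at h
      obtain ⟨s, hs⟩ := mem_orbit_symm.1 h
      exact hb i (by rw [← hs]; exact s.2)
    let T : Finset (Fin 4) := Finset.univ.filter fun i => p i ∈ B
    haveI : Fintype X := Fintype.ofFinite X
    have huniv : ∀ y : X, y = b ∨ ∃ i, y ∈ O i := by
      have hc : (insert b (Finset.univ.biUnion O)).card = Fintype.card X := by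
        rw [Finset.card_insert_of_notMem (by simpa using hbO),
          Finset.card_biUnion (fun i _ j _ h => hpd i j h), Fin.sum_univ_four, hOc, hOc, hOc, hOc,
          ← Nat.card_eq_fintype_card, hX]
        rfl
      intro y
      have := Finset.eq_univ_of_card _ hc
      have hy : y ∈ insert b (Finset.univ.biUnion O) := this ▸ Finset.mem_univ y
      simpa using hy
    have hBset : B.toFinite.toFinset = insert b (T.biUnion O) := by
      ext y
      rw [Set.Finite.mem_toFinset, Finset.mem_insert, Finset.mem_biUnion]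
      constructor
      · intro hy
        rcases huniv y with rfl | ⟨i, hi⟩
        · exact Or.inl rfl
        · refine Or.inr ⟨i, Finset.mem_filter.2 ⟨Finset.mem_univ _, ?_⟩, hi⟩
          rw [hmemO] at hi
          obtain ⟨s, hs⟩ := mem_orbit_symm.1 hi
          rw [← hs]
          exact hSB s y hy
      · rintro (rfl | ⟨i, hi, hy⟩)
        · exact mem_orbit_self _
        · obtain ⟨s, rfl⟩ := (hmemO i y).1 hy
          exact hSB s _ (Finset.mem_filter.1 hi).2
    have hBc : Nat.card B = 1 + ∑ i ∈ T, ![252, 3500, 750, 2625] i := by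
      rw [Nat.card_coe_set_eq, Set.ncard_eq_toFinset_card _ (Set.toFinite _), hBset,
        Finset.card_insert_of_notMem (by simpa using fun i _ => hbO i),
        Finset.card_biUnion (fun i _ j _ h => hpd i j h), Finset.sum_congr rfl fun i _ => hOc i,
        add_comm]
    have hdvd : Nat.card B ∣ 7128 := by
      haveI := hN
      have hblk : IsBlock C B := IsBlock.orbit_of_normal b
      exact hX ▸ hblk.ncard_dvd_card ⟨b, mem_orbit_self b⟩
    have hTdec : ∀ S : Finset (Fin 4),
        (1 + ∑ i ∈ S, (![252, 3500, 750, 2625] : Fin 4 → ℕ) i) ∣ 7128 → S = ∅ ∨ S = Finset.univ := by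
      decide
    rcases hTdec T (hBc ▸ hdvd) with hT | hT
    · left
      refine le_antisymm (fun n hn => hker n fun x => ?_) hZN
      have hB : B.toFinite.toFinset = {b} := by rw [hBset, hT]; rfl
      obtain ⟨c, rfl⟩ := exists_smul_eq C b x
      have hn' : c⁻¹ * n * c ∈ N := by simpa using hN.conj_mem n hn c⁻¹
      have hy : (c⁻¹ * n * c) • b ∈ B.toFinite.toFinset :=
        (Set.Finite.mem_toFinset _).2 ⟨⟨_, hn'⟩, rfl⟩
      rw [hB, Finset.mem_singleton, mul_smul, mul_smul, inv_smul_eq_iff] at hy
      exact hy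
    · right
      have hall : ∀ y, y ∈ B := fun y => by
        rcases huniv y with rfl | ⟨i, hi⟩
        · exact mem_orbit_self _
        · rw [← Set.Finite.mem_toFinset B.toFinite, hBset, hT]
          exact Finset.mem_insert_of_mem (Finset.mem_biUnion.2 ⟨i, Finset.mem_univ _, hi⟩)
      have hNX : 7128 ∣ Nat.card N := by
        have h : Nat.card B = 7128 := by
          rw [← hX]
          exact Nat.card_congr (Equiv.subtypeUnivEquiv hall)
        rw [← h, Nat.card_congr (orbitEquivQuotientStabilizer N b)]
        exact Subgroup.card_quotient_dvd_card _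
      have hidx : Nat.Coprime 11 N.index := by
        rw [Nat.Prime.coprime_iff_not_dvd (by norm_num)]
        intro h
        have : 11 * 7128 ∣ 2694384000 := by
          rw [← hC, ← N.index_mul_card]; exact Nat.mul_dvd_mul h hNX
        norm_num at this
      have hWN : Subgroup.closure {w | w ∈ W} ≤ N := by
        rw [Subgroup.closure_le]
        intro w hw
        haveI := hN
        have h1 : orderOf (QuotientGroup.mk' N w) ∣ 11 :=
          orderOf_dvd_of_pow_eq_one (by rw [← map_pow, hW w hw, map_one])
        have h2 : orderOf (QuotientGroup.mk' N w) ∣ N.index := orderOf_dvd_natCard _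
        have h3 := Nat.eq_one_of_dvd_coprimes hidx h1 h2
        rwa [orderOf_eq_one_iff, QuotientGroup.mk'_apply, QuotientGroup.eq_one_iff] at h3
      have hSN : stabilizer C b ≤ N := hgen.trans (sup_le hWN hZN)
      rw [eq_top_iff]
      intro g _
      obtain ⟨n, hn⟩ := hall (g • b)
      have : (n : C)⁻¹ * g ∈ stabilizer C b := by
        rw [mem_stabilizer_iff, mul_smul, ← hn]
        exact inv_smul_smul (n : C) b
      simpa using N.mul_mem n.2 (hSN this)
  haveI : Nontrivial (C ⧸ Z) := Finite.one_lt_card_iff_nontrivial.1 (by rw [hcard]; norm_num)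
  haveI hsimp : IsSimpleGroup (C ⧸ Z) := by
    refine ⟨fun M hM => ?_⟩
    have hle : Z ≤ M.comap (QuotientGroup.mk' Z) := fun z hz => by
      rw [Subgroup.mem_comap, show QuotientGroup.mk' Z z = 1 from (QuotientGroup.eq_one_iff z).2 hz]
      exact M.one_mem
    have hM' : M = (M.comap (QuotientGroup.mk' Z)).map (QuotientGroup.mk' Z) :=
      (Subgroup.map_comap_eq_self_of_surjective (QuotientGroup.mk'_surjective Z) M).symm
    rcases key _ (hM.comap _) hle with h | h
    · left
      rw [hM', h, QuotientGroup.map_mk'_self]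
    · right
      rw [hM', h, ← MonoidHom.range_eq_map]
      exact MonoidHom.range_eq_top.2 (QuotientGroup.mk'_surjective Z)
  refine ⟨hsimp, hcard, fun c hc => ?_⟩
  have hc' : QuotientGroup.mk' Z c ∈ Subgroup.center (C ⧸ Z) := by
    rw [Subgroup.mem_center_iff]
    intro g
    obtain ⟨g, rfl⟩ := QuotientGroup.mk'_surjective Z g
    rw [← map_mul, ← map_mul, Subgroup.mem_center_iff.1 hc g]
  rcases (inferInstance : (Subgroup.center (C ⧸ Z)).Normal).eq_bot_or_eq_top with h | h
  · rw [h, Subgroup.mem_bot, QuotientGroup.mk'_apply, QuotientGroup.eq_one_iff] at hc'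
    exact hc'
  · exfalso
    letI : CommGroup (C ⧸ Z) := Group.commGroupOfCenterEqTop h
    have := (IsSimpleGroup.prime_card (α := C ⧸ Z))
    rw [hcard] at this
    norm_num at this

end Cfsg.Agent.H44.Ly477
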