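import Cfsg.Agent.H44.Ly477.Chain
import Cfsg.Agent.H44.Ly477.Checks
import Cfsg.Agent.H44.Ly477.Criterion
import Cfsg.Agent.H27.LyRep.Simple
import Cfsg.Prelude.Def_Sporadic

/-!
The centraliser of an element of order three of the Lyons group: a triple cover of a simple group of order
898128000.
-/

set_option autoImplicit false
set_option maxRecDepth 100000
set_option linter.style.haveILetI false

namespace Cfsg.Agent.H44.Ly477

open MulAction
open Cfsg.Agent.H27.LyG2 (K44 H4 Seven.S Seven.o Seven.GL7)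
open Cfsg.Agent.H37.LyPerm (phiK phiK_inj phiK_word psi7 psi7_inj gR KS sub mgrp elt repW okW sub_spec spec_par
  specTwo specThree specFour inv5 elt_inv elt_append)
open Cfsg.Agent.H37.LyPerm.Data (WPee WEll WTwo WThree WFour)

local instance : Fact (Nat.Prime 5) := ⟨by norm_num⟩

theorem like_tX : Like (psi7 tX) := by
  refine ⟨?_, fun h => ?_, ?_⟩
  · rw [← map_pow, show tX ^ 3 = 1 by rw [← orderOf_tX]; exact pow_orderOf_eq_one tX, map_one]
  · have h1 : tX = 1 := psi7_inj (h.trans (map_one psi7).symm)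
    have := orderOf_tX
    rw [h1, orderOf_one] at this
    omega
  · have hb : Nat.beq (trP (H27.LyG2.Seven.evM xW)) 3 = true := by decide +kernel
    rw [tX_eq, psi_kW, show (Seven.S.den (H27.LyG2.Seven.evM xW) : Matrix (Fin 7) (Fin 7) (ZMod 5)) =
      Compute.toMat 7 7 5 (H27.LyG2.Seven.evM xW) from
        Compute.matDen_coe (H27.LyG2.Seven.evM_ok xW).1]
    have e := Nat.eq_of_beq_eq_true hb
    rw [trP] at e
    generalize H27.LyG2.Seven.evM xW = M at e ⊢
    have e' := congrArg (Nat.cast : ℕ → ZMod 5) e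
    rw [show Nat.mod = (· % ·) from rfl] at e'
    rw [ZMod.natCast_mod] at e'
    simpa [Matrix.trace, Fin.sum_univ_seven, Compute.toMat] using e'

theorem like_conj (u : K44) : Like (psi7 (u⁻¹ * tX * u)) := by
  obtain ⟨h3, h1, ht⟩ := like_tX
  rw [map_mul, map_mul, map_inv]
  refine ⟨?_, fun h => h1 ?_, ?_⟩
  · have : ((psi7 u)⁻¹ * psi7 tX * psi7 u) ^ 3 = (psi7 u)⁻¹ * psi7 tX ^ 3 * psi7 u := by
      simp [pow_succ, mul_assoc]
    rw [this, h3, mul_one, inv_mul_cancel]
  · have := congrArg (fun z => psi7 u * z * (psi7 u)⁻¹) h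
    simpa [mul_assoc] using this
  · rw [Units.val_mul, Units.val_mul, Matrix.trace_units_conj', ht]

/-- the element of order three -/
noncomputable def X3 : Cfsg.Spor.Ly := phiK tX

theorem phiK_kW (w : List ℕ) (h : okW w = true) : phiK (kW w) = elt (w.map tr5) := phiK_word w h

theorem X3_eq : X3 = elt x5 := phiK_kW xW (by decide)

/-- the centraliser -/
abbrev CX : Subgroup Cfsg.Spor.Ly := Subgroup.centralizer ({X3} : Set Cfsg.Spor.Ly)

/-- the base coset -/
noncomputable def bH : Cfsg.Spor.Ly ⧸ H4 := ((1 : Cfsg.Spor.Ly) : Cfsg.Spor.Ly ⧸ H4)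

/-- conjugators of the four suborbits -/
def wWs : Fin 4 → List ℕ := ![wW1, wW2, wW3, wW4]

/-- conjugators of the four suborbits, other side -/
def hWs : Fin 4 → List ℕ := ![hW1, hW2, hW3, hW4]

/-- the four points -/
noncomputable def qPt (i : Fin 4) : Cfsg.Spor.Ly ⧸ H4 := phiO i.succ ((kW (wWs i) : K44) : K44 ⧸ KS i.succ)

theorem ks_bounds :
    300000 ≤ Nat.card (KS 1) ∧ 6048 ≤ Nat.card (KS 2) ∧ 1008 ≤ Nat.card (KS 3) ∧ 2880 ≤ Nat.card (KS 4) :=
  ⟨(sub_spec _).1.symm ▸ spec_par.1, ((sub_spec _).1.trans specTwo.1).ge,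
    ((sub_spec _).1.trans specFour.1).ge, ((sub_spec _).1.trans specThree.1).ge⟩

theorem fix_le (t : ℕ) (i : Fin 5) {n j : ℕ} (hn : n ≤ Nat.card (KS i))
    (hj : Nat.card {k : KS i // Like (psi7 (k : K44))} ≤ j) (hlt : 378000 * j < (t + 1) * n) :
    Nat.card (fixedBy (K44 ⧸ KS i) tX) ≤ t := by
  haveI := finite_K44
  have h := card_fixedBy_mul_le (KS i) tX (fun u => Like (psi7 u)) like_conj
  rw [centralizer_tX.1] at h
  by_contra hf
  have h1 : (t + 1) * n ≤ Nat.card (fixedBy (K44 ⧸ KS i) tX) * Nat.card (KS i) :=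
    Nat.mul_le_mul (by omega) hn
  have h2 : 378000 * Nat.card {k : KS i // Like (psi7 (k : K44))} ≤ 378000 * j := Nat.mul_le_mul_left _ hj
  omega

theorem card_fixed_le : Nat.card (fixedBy (Cfsg.Spor.Ly ⧸ H4) X3) ≤ 7128 := by
  haveI := finite_K44
  haveI : Finite Seven.GL7 := inferInstance
  rw [X3, card_fixed, Fin.sum_univ_five]
  obtain ⟨k1, k2, k3, k4⟩ := ks_bounds
  have f0 : Nat.card (fixedBy (K44 ⧸ KS 0) tX) ≤ 1 := by
    refine le_trans (Nat.card_le_card_of_injective Subtype.val Subtype.val_injective) (le_of_eq ?_)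
    exact Subgroup.index_top
  have f1 := fix_le 252 1 k1 (card_sub_le _ Like spec_para.1) (by norm_num)
  have f2 := fix_le 3500 2 k2 (card_sub_le _ Like spec_two.1) (by norm_num)
  have f3 := fix_le 750 3 k3 (card_sub_le _ Like spec_four.1) (by norm_num)
  have f4 := fix_le 2625 4 k4 (card_sub_le _ Like spec_three.1) (by norm_num)
  omega

theorem conj_count (i : Fin 4) :
    Nat.card {k : KS i.succ // (k : K44) * ((kW (wWs i))⁻¹ * tX * kW (wWs i)) =
      (kW (wWs i))⁻¹ * tX * kW (wWs i) * (k : K44)} ≤ ![1500, 108, 504, 144] i := by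
  haveI := finite_K44
  haveI : Finite Seven.GL7 := inferInstance
  have key : ∀ (W : List (List ℕ)) (w : List ℕ) (n : ℕ), invWOK w = true →
      Nat.card {a : mgrp W // (a : Seven.GL7) * psi7 (kW (conjX w)) = psi7 (kW (conjX w)) * (a : Seven.GL7)} ≤ n →
      Nat.card {k : sub W // (k : K44) * ((kW w)⁻¹ * tX * kW w) = (kW w)⁻¹ * tX * kW w * (k : K44)} ≤ n := by
    intro W w n hw h
    refine le_trans (Nat.card_le_card_of_injective (fun k => (⟨(k : sub W), ?_⟩ :
      {k : sub W // psi7 (k : K44) * psi7 (kW (conjX w)) = psi7 (kW (conjX w)) * psi7 (k : K44)}))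
      fun a b hab => Subtype.ext (congrArg Subtype.val hab :))
      (card_sub_le W (fun a => a * psi7 (kW (conjX w)) = psi7 (kW (conjX w)) * a) h)
    rw [kW_conj hw, ← map_mul, ← map_mul, k.2]
  fin_cases i
  · exact key _ _ _ inv_ok1 spec_para.2
  · exact key _ _ _ inv_ok2 spec_two.2
  · exact key _ _ _ inv_ok3 spec_four.2
  · exact key _ _ _ inv_ok4 spec_three.2

/-- the embedding of the centraliser inside `G₂(5)` -/
noncomputable def iota : Subgroup.centralizer ({tX} : Set K44) →* CX :=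
  (phiK.comp (Subgroup.centralizer ({tX} : Set K44)).subtype).codRestrict CX fun c =>
    Subgroup.mem_centralizer_singleton_iff.2 (by
      show phiK (c : K44) * phiK tX = phiK tX * phiK (c : K44)
      rw [← map_mul, ← map_mul, Subgroup.mem_centralizer_singleton_iff.1 c.2])

theorem iota_val (c : Subgroup.centralizer ({tX} : Set K44)) : ((iota c : CX) : Cfsg.Spor.Ly) = phiK (c : K44) :=
  rfl

theorem mem_stab_bH (c : CX) : c • bH = bH ↔ (c : Cfsg.Spor.Ly) ∈ H4 := by
  show ((((c : Cfsg.Spor.Ly) * 1 : Cfsg.Spor.Ly)) : Cfsg.Spor.Ly ⧸ H4) = ((1 : Cfsg.Spor.Ly) : _ ⧸ H4) ↔ _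
  rw [mul_one, QuotientGroup.eq, mul_one, Subgroup.inv_mem_iff]

theorem stab_range : stabilizer CX bH = iota.range := by
  ext c
  rw [mem_stabilizer_iff, mem_stab_bH, MonoidHom.mem_range]
  constructor
  · intro h
    obtain ⟨u, hu⟩ := (mem_H4_iff _).1 h
    refine ⟨⟨u, Subgroup.mem_centralizer_singleton_iff.2 (phiK_inj ?_)⟩, Subtype.ext hu⟩
    rw [map_mul, map_mul, hu]
    exact Subgroup.mem_centralizer_singleton_iff.1 c.2
  · rintro ⟨u, rfl⟩
    exact phiK_mem _

/-- the four elements joining the points -/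
noncomputable def yEl (i : Fin 4) : CX :=
  ⟨elt (yW.getD i.val []), Subgroup.mem_centralizer_singleton_iff.2 (by rw [X3_eq]; exact y_comm _ i.2)⟩

theorem yEl_smul (i : Fin 4) : (yEl i)⁻¹ • bH = qPt i := by
  have hw : okW (wWs i) = true ∧ okW (hWs i) = true := by fin_cases i <;> decide
  have hy : yW.getD i.val [] = (hWs i).map tr5 ++ repW.getD (i.succ).val [] ++ (((wWs i).map tr5).map inv5).reverse := by
    fin_cases i <;> rfl
  show ((((elt (yW.getD i.val []))⁻¹ * 1 : Cfsg.Spor.Ly)) : Cfsg.Spor.Ly ⧸ H4) = _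
  rw [qPt, phiO_mk, mul_one, hy, elt_append, elt_append, elt_inv, ← phiK_kW _ hw.1, ← phiK_kW _ hw.2, gR,
    QuotientGroup.eq]
  simp only [mul_inv_rev, inv_inv, mul_assoc, inv_mul_cancel_left, mul_inv_cancel_left]
  simpa [mul_assoc] using phiK_mem (kW (hWs i))

/-- suborbit inside `G₂(5)` -/
abbrev orbK (i : Fin 4) : Set (K44 ⧸ KS i.succ) :=
  orbit (Subgroup.centralizer ({tX} : Set K44)) ((kW (wWs i) : K44) : K44 ⧸ KS i.succ)

theorem orbK_map (i : Fin 4) :
    orbit (stabilizer CX bH) (qPt i) = phiO i.succ '' orbK i := by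
  ext y
  constructor
  · rintro ⟨⟨s, hs⟩, rfl⟩
    rw [stab_range] at hs
    obtain ⟨u, rfl⟩ := hs
    refine ⟨_, ⟨u, rfl⟩, ?_⟩
    show phiO i.succ ((u : K44) • ((kW (wWs i) : K44) : K44 ⧸ KS i.succ)) = phiK (u : K44) • qPt i
    exact phiO_smul _ _ _
  · rintro ⟨q, ⟨u, rfl⟩, rfl⟩
    refine ⟨⟨iota u, stab_range ▸ ⟨u, rfl⟩⟩, ?_⟩
    show phiK (u : K44) • qPt i = phiO i.succ ((u : K44) • ((kW (wWs i) : K44) : K44 ⧸ KS i.succ))
    exact (phiO_smul _ _ _).symm

theorem phiO_inj (i : Fin 5) : Function.Injective (phiO i) := fun a b h =>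
  eq_of_heq (Sigma.mk.inj_iff.1 (@phiS_bijective.1 ⟨i, a⟩ ⟨i, b⟩ h)).2

theorem card_orbK_ge (i : Fin 4) : ![252, 3500, 750, 2625] i ≤ Nat.card (orbit (stabilizer CX bH) (qPt i)) := by
  haveI := finite_K44
  rw [orbK_map, Nat.card_image_of_injective (phiO_inj _)]
  have h := (card_centralizer_le_orbit (KS i.succ) tX (kW (wWs i))).trans
    (Nat.mul_le_mul_left _ (conj_count i))
  rw [centralizer_tX.1] at h
  change 378000 ≤ Nat.card (orbK i) * _ at h
  generalize Nat.card (orbK i) = N at h ⊢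
  fin_cases i <;> norm_num at h ⊢ <;> omega

theorem qPt_ne (i : Fin 4) : qPt i ≠ bH := by
  intro h
  have h1 : phiS ⟨i.succ, ((kW (wWs i) : K44) : K44 ⧸ KS i.succ)⟩ = phiS ⟨0, ((1 : K44) : K44 ⧸ KS 0)⟩ := by
    refine h.trans ?_
    show _ = phiO 0 _
    rw [phiO_mk, map_one, one_mul, gR]
    simp [repW, H37.LyPerm.elt_nil, bH]
  exact Fin.succ_ne_zero i (Sigma.mk.inj_iff.1 (phiS_bijective.1 h1)).1

theorem qPt_dis (i j : Fin 4) (h : qPt j ∈ orbit (stabilizer CX bH) (qPt i)) : i = j := by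
  rw [orbK_map] at h
  obtain ⟨q, -, hq⟩ := h
  exact Fin.succ_injective _ (Sigma.mk.inj_iff.1
    (@phiS_bijective.1 ⟨i.succ, q⟩ ⟨j.succ, ((kW (wWs j) : K44) : K44 ⧸ KS j.succ)⟩ hq)).1

theorem orbit_fixed : orbit CX bH ⊆ fixedBy (Cfsg.Spor.Ly ⧸ H4) X3 := by
  rintro _ ⟨c, rfl⟩
  rw [mem_fixedBy]
  show X3 • ((c : Cfsg.Spor.Ly) • bH) = (c : Cfsg.Spor.Ly) • bH
  rw [smul_smul, ← Subgroup.mem_centralizer_singleton_iff.1 c.2, ← smul_smul]
  congr 1
  show (((X3 * 1 : Cfsg.Spor.Ly)) : Cfsg.Spor.Ly ⧸ H4) = _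
  rw [mul_one, bH, QuotientGroup.eq, mul_one, Subgroup.inv_mem_iff]
  exact phiK_mem tX

theorem qPt_mem (i : Fin 4) : orbit (stabilizer CX bH) (qPt i) ⊆ orbit CX bH := by
  rintro _ ⟨s, rfl⟩
  refine ⟨(s : CX) * (yEl i)⁻¹, ?_⟩
  show ((s : CX) * (yEl i)⁻¹) • bH = (s : CX) • qPt i
  rw [mul_smul, yEl_smul]

theorem orbit_data : Nat.card (orbit CX bH) = 7128 ∧
    ∀ i, Nat.card (orbit (stabilizer CX bH) (qPt i)) = ![252, 3500, 750, 2625] i := by
  classical
  haveI := finite_G
  let f : Unit ⊕ (Σ i : Fin 4, orbit (stabilizer CX bH) (qPt i)) → orbit CX bH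
    | .inl _ => ⟨bH, mem_orbit_self _⟩
    | .inr p => ⟨p.2, qPt_mem p.1 p.2.2⟩
  have hb : ∀ i, bH ∉ orbit (stabilizer CX bH) (qPt i) := fun i h => by
    obtain ⟨s, hs⟩ := mem_orbit_symm.1 h
    exact qPt_ne i (by rw [← hs]; exact s.2)
  have hf : Function.Injective f := by
    rintro (⟨⟩ | ⟨i, q, hq⟩) (⟨⟩ | ⟨j, r, hr⟩) h
    · rfl
    · have e : bH = r := congrArg Subtype.val h
      exact absurd hr (e ▸ hb j)
    · have e : q = bH := congrArg Subtype.val h
      exact absurd hq (e ▸ hb i)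
    · have e : q = r := congrArg Subtype.val h
      subst e
      obtain rfl := qPt_dis i j ((orbit_eq_iff.2 hq).symm.trans (orbit_eq_iff.2 hr) ▸ mem_orbit_self _)
      rfl
  have h1 := Nat.card_le_card_of_injective f hf
  rw [Nat.card_sum, Nat.card_sigma, Fin.sum_univ_four, Nat.card_unique] at h1
  have h2 : Nat.card (orbit CX bH) ≤ 7128 :=
    (Nat.card_mono (Set.toFinite _) orbit_fixed).trans card_fixed_le
  have g0 := card_orbK_ge 0
  have g1 := card_orbK_ge 1
  have g2 := card_orbK_ge 2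
  have g3 := card_orbK_ge 3
  simp only [Matrix.cons_val_zero, Matrix.cons_val_one, Matrix.cons_val] at g0 g1 g2 g3
  refine ⟨by omega, fun i => ?_⟩
  fin_cases i <;> simp only [Matrix.cons_val_zero, Matrix.cons_val_one, Matrix.cons_val, Fin.reduceFinMk,
    Fin.isValue, Fin.zero_eta, Fin.mk_one] <;> omega

theorem card_CX : Nat.card CX = 2694384000 := by
  haveI := finite_G
  have h : Nat.card (stabilizer CX bH) = 378000 := by
    rw [stab_range, ← centralizer_tX.1]
    refine (Nat.card_congr (MonoidHom.ofInjective (f := iota) fun a b e => ?_).toEquiv).symm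
    exact Subtype.ext (phiK_inj (congrArg Subtype.val e :))
  rw [← (stabilizer CX bH).index_mul_card, h, index_stabilizer, ← Nat.card_coe_set_eq, orbit_data.1]

/-- the element of order three inside its centraliser -/
noncomputable def Xc : CX := ⟨X3, Subgroup.mem_centralizer_singleton_iff.2 rfl⟩

/-- The centraliser modulo the element is simple of order 898128000, with centre generated by the element. -/
theorem quotient_data : orderOf X3 = 3 ∧ Subgroup.center CX = Subgroup.zpowers Xc ∧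
    IsSimpleGroup (CX ⧸ Subgroup.center CX) ∧ Nat.card (CX ⧸ Subgroup.center CX) = 898128000 := by
  classical
  haveI := finite_G
  have h3 : orderOf X3 = 3 := by rw [X3, orderOf_injective phiK phiK_inj, orderOf_tX]
  have hc : Subgroup.zpowers Xc ≤ Subgroup.center CX := (Subgroup.zpowers_le (H := Subgroup.center CX)).2
    (Subgroup.mem_center_iff.2 fun g => Subtype.ext (Subgroup.mem_centralizer_singleton_iff.1 g.2))
  haveI : (Subgroup.zpowers Xc).Normal := ⟨fun n hn g => by
    rw [Subgroup.mem_center_iff.1 (hc hn) g, mul_inv_cancel_right]; exact hn⟩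
  have hZ : Nat.card (Subgroup.zpowers Xc) = 3 := by
    rw [Nat.card_zpowers, ← orderOf_injective CX.subtype CX.subtype_injective]
    exact h3
  let p : Fin 4 → orbit CX bH := fun i => ⟨qPt i, qPt_mem i (mem_orbit_self _)⟩
  let b : orbit CX bH := ⟨bH, mem_orbit_self _⟩
  have hstab : stabilizer CX b = stabilizer CX bH := by
    ext c
    rw [mem_stabilizer_iff, mem_stabilizer_iff]
    exact ⟨fun h => congrArg Subtype.val h, fun h => Subtype.ext h⟩
  have horb : ∀ i, Subtype.val '' orbit (stabilizer CX b) (p i) = orbit (stabilizer CX bH) (qPt i) := by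
    intro i
    ext y
    constructor
    · rintro ⟨_, ⟨s, rfl⟩, rfl⟩
      exact ⟨⟨s, hstab ▸ s.2⟩, rfl⟩
    · rintro ⟨s, rfl⟩
      exact ⟨(⟨s, hstab.symm ▸ s.2⟩ : stabilizer CX b) • p i, ⟨_, rfl⟩, rfl⟩
  let W : List CX := (List.finRange 4).map fun i =>
    ⟨elt (elevW.getD i.val []), Subgroup.mem_centralizer_singleton_iff.2 (by rw [X3_eq]; exact elev_comm _ i.2)⟩
  obtain ⟨hs, hq, hle⟩ : IsSimpleGroup (CX ⧸ Subgroup.zpowers Xc) ∧
      Nat.card (CX ⧸ Subgroup.zpowers Xc) = 898128000 ∧ Subgroup.center CX ≤ Subgroup.zpowers Xc := by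
    refine quotient_simple b orbit_data.1 card_CX p
      (fun i => by rw [← orbit_data.2 i, ← horb i, Nat.card_image_of_injective Subtype.val_injective])
      (fun i j h => qPt_dis i j (horb i ▸ Set.mem_image_of_mem Subtype.val h))
      (fun i h => qPt_ne i (congrArg Subtype.val h)) (Subgroup.zpowers Xc) hZ ?_ W ?_ ?_
    · intro c hfix
      have hcb : c ∈ stabilizer CX bH := hstab ▸ hfix b
      rw [stab_range] at hcb
      obtain ⟨u, rfl⟩ := hcb
      have hu : (u : K44) ∈ Subgroup.zpowers tX := by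
        refine centralizer_tX.2.2 _ u.2 fun j _ => ?_
        set a : K44 := (kW (flat (baseW.getD j [])))⁻¹
        have ha : a ∈ Subgroup.centralizer ({tX} : Set K44) := Pm_le (Pm.inv_mem (flat_mem _))
        have hy : phiK a • qPt 0 ∈ orbit CX bH :=
          qPt_mem 0 ⟨⟨iota ⟨a, ha⟩, stab_range ▸ ⟨_, rfl⟩⟩, rfl⟩
        have e := congrArg Subtype.val (hfix ⟨_, hy⟩)
        change phiK (u : K44) • phiK a • qPt 0 = phiK a • qPt 0 at e
        rw [qPt, ← phiO_smul, ← phiO_smul] at e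
        have e2 := phiO_inj _ e
        rw [MulAction.Quotient.smul_coe, MulAction.Quotient.smul_coe, QuotientGroup.eq] at e2
        letI := objAct
        have e3 := ks_one_fix _ e2
        simp only [smul_eq_mul] at e3
        show (u : K44) • a • kW wW1 • o0 = a • kW wW1 • o0
        simp only [wWs, Matrix.cons_val_zero, mul_smul, inv_smul_eq_iff] at e3
        exact e3.symm
      obtain ⟨n, hn⟩ := hu
      exact ⟨n, Subtype.ext (by
        show ((Xc ^ n : CX) : Cfsg.Spor.Ly) = phiK (u : K44)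
        rw [Subgroup.coe_zpow, ← hn, map_zpow]
        rfl)⟩
    · intro w hw
      obtain ⟨i, -, rfl⟩ := List.mem_map.1 hw
      exact Subtype.ext (elev_pow _ i.2)
    · rw [hstab, stab_range]
      rintro _ ⟨u, rfl⟩
      set T := Subgroup.closure {w | w ∈ W} ⊔ Subgroup.zpowers Xc
      have hPm : Pm ≤ (T.map CX.subtype).comap phiK := by
        refine sup_le ((Subgroup.closure_le _).2 ?_) (Subgroup.zpowers_le.2
          ⟨Xc, Subgroup.mem_sup_right (Subgroup.mem_zpowers _), rfl⟩)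
        rintro _ ⟨j, hj, rfl⟩
        show phiK (kW (mW.getD j [])) ∈ T.map CX.subtype
        have hok : okW (mW.getD j []) = true := by interval_cases j <;> decide
        rw [phiK_kW _ hok, m_split j hj]
        have hmem : ∀ i : Fin 4, elt (elevW.getD i.val []) ∈ T.map CX.subtype := fun i =>
          ⟨_, Subgroup.mem_sup_left (Subgroup.subset_closure (List.mem_map.2 ⟨i, List.mem_finRange i, rfl⟩)), rfl⟩
        exact mul_mem (hmem ⟨2 * j, by omega⟩) (inv_mem (hmem ⟨2 * j + 1, by omega⟩))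
      have hu2 : (u : K44) ∈ Pm := centralizer_tX.2.1.ge u.2
      obtain ⟨c, hc', he⟩ := hPm hu2
      exact (show c = iota u from Subtype.ext he) ▸ hc'
  have he : Subgroup.center CX = Subgroup.zpowers Xc := le_antisymm hle hc
  exact ⟨h3, he, (QuotientGroup.quotientMulEquivOfEq he).isSimpleGroup_congr.2 hs,
    (Nat.card_congr (QuotientGroup.quotientMulEquivOfEq he).toEquiv).trans hq⟩

theorem result_core : ∃ (G : Type) (_ : Group G) (_ : Finite G), Cfsg.IsLy G ∧ ∃ x : G, orderOf x = 3 ∧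
    Nat.card (Subgroup.center (Subgroup.centralizer ({x} : Set G))) = 3 ∧
    Cfsg.IsMcL ((Subgroup.centralizer ({x} : Set G)) ⧸ Subgroup.center (Subgroup.centralizer ({x} : Set G))) := by
  haveI := finite_G
  obtain ⟨h3, hc, hs, hq⟩ := quotient_data
  refine ⟨Cfsg.Spor.Ly, inferInstance, finite_G,
    ⟨H27.LyRep.isSimple_ly, H27.LyRep.card_ly⟩, X3, h3, ?_, hs, hq⟩
  rw [hc, Nat.card_zpowers, ← orderOf_injective CX.subtype CX.subtype_injective]
  exact h3

end Cfsg.Agent.H44.Ly477
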